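import Cfsg.Agent.Lib.DihedralBGroup.Galois

/-!
# Invariant sets whose convolution square is constant off the identity

The counting equations (`design_eqs`) of such a set.
-/

set_option autoImplicit false

namespace Cfsg.Agent.DihedralB

open scoped Classical
open DihedralGroup

variable {G Ω : Type*} [Group G] [MulAction G Ω] {m : ℕ} [NeZero m] (D : Reg G Ω m)

section Ring

variable {R : Type*} [CommRing R]

/-- The all-one element. -/
noncomputable def allOne : AddMonoidAlgebra R (ZMod m) := ofFun fun _ => 1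

@[simp] theorem coeff_allOne (i : ZMod m) : (allOne : AddMonoidAlgebra R (ZMod m)).coeff i = 1 := rfl

theorem mul_allOne (z : AddMonoidAlgebra R (ZMod m)) :
    z * allOne = (∑ i, z.coeff i) • allOne := by
  ext k
  rw [coeff_mul_eq_sum]
  simp

theorem sum_coeff_mul (a b : AddMonoidAlgebra R (ZMod m)) :
    ∑ k, (a * b).coeff k = (∑ i, a.coeff i) * ∑ i, b.coeff i := by
  simp only [coeff_mul_eq_sum]
  rw [Finset.sum_comm, Finset.sum_mul]
  refine Finset.sum_congr rfl fun i _ => ?_
  rw [Finset.mul_sum]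
  exact Fintype.sum_equiv (Equiv.subRight i) _ _ fun k => rfl

theorem sum_coeff_st (a : AddMonoidAlgebra R (ZMod m)) :
    ∑ k, (st a).coeff k = ∑ k, a.coeff k :=
  Fintype.sum_equiv (Equiv.neg (ZMod m)) _ _ fun k => by simp

theorem coeff_zsmul (c : ℤ) (z : AddMonoidAlgebra ℤ (ZMod m)) (i : ZMod m) :
    (c • z).coeff i = c * z.coeff i := by
  rw [AddMonoidAlgebra.coeff_smul_apply, smul_eq_mul]

end Ring

/-- The rotation part. -/
noncomputable def rotPart (p : DihedralGroup m → Prop) : AddMonoidAlgebra ℤ (ZMod m) :=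
  ofFun fun i => ind ℤ p (r i)

/-- The reflection part. -/
noncomputable def refPart (p : DihedralGroup m → Prop) : AddMonoidAlgebra ℤ (ZMod m) :=
  ofFun fun i => ind ℤ p (sr i)

theorem el_ind_eq (p : DihedralGroup m → Prop) : el (ind ℤ p) = mk (rotPart p) (refPart p) := rfl

theorem rotPart_zero_or_one (p : DihedralGroup m → Prop) (i : ZMod m) :
    (rotPart p).coeff i = 0 ∨ (rotPart p).coeff i = 1 := by
  simp only [rotPart, ind, coeff_ofFun]; split_ifs <;> simp

theorem refPart_zero_or_one (p : DihedralGroup m → Prop) (i : ZMod m) :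
    (refPart p).coeff i = 0 ∨ (refPart p).coeff i = 1 := by
  simp only [refPart, ind, coeff_ofFun]; split_ifs <;> simp

variable [MulAction.IsPreprimitive G Ω]

theorem sum_parts_pos (hm : 2 ≤ m) {p : DihedralGroup m → Prop} (hp : Inv D p)
    {d : DihedralGroup m} (hd : d ≠ 1) (hpd : p d) :
    0 < ∑ i, (rotPart p).coeff i ∧ 0 < ∑ i, (refPart p).coeff i := by
  obtain ⟨i0, hi0⟩ := exists_r_cls D hm hd
  obtain ⟨j0, hj0⟩ := exists_sr_cls D hd
  constructor
  · refine Finset.sum_pos' (fun i _ => ?_) ⟨i0, Finset.mem_univ _, ?_⟩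
    · rcases rotPart_zero_or_one p i with h | h <;> omega
    · simp [rotPart, ind, (iff_of_eq (hp.eq_of_cls D hi0)).2 hpd]
  · refine Finset.sum_pos' (fun i _ => ?_) ⟨j0, Finset.mem_univ _, ?_⟩
    · rcases refPart_zero_or_one p i with h | h <;> omega
    · simp [refPart, ind, (iff_of_eq (hp.eq_of_cls D hj0)).2 hpd]

theorem rot_sq_coeff_zero {p : DihedralGroup m → Prop} (hp : Inv D p) :
    (rotPart p * rotPart p).coeff 0 = ∑ i, (rotPart p).coeff i := by
  have hst : st (rotPart p) = rotPart p := st_rot D (inv_ind D ℤ hp)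
  rw [coeff_mul_eq_sum]
  refine Finset.sum_congr rfl fun i _ => ?_
  rw [zero_sub, ← coeff_st (rotPart p) i, hst]
  rcases rotPart_zero_or_one p i with h | h <;> simp [h]

omit [MulAction.IsPreprimitive G Ω] in
theorem ref_sq_coeff_zero (p : DihedralGroup m → Prop) :
    (st (refPart p) * refPart p).coeff 0 = ∑ i, (refPart p).coeff i := by
  rw [coeff_mul_eq_sum]
  refine Fintype.sum_equiv (Equiv.neg (ZMod m)) _ _ fun i => ?_
  simp only [coeff_st, zero_sub, Equiv.neg_apply]
  rcases refPart_zero_or_one p (-i) with h | h <;> simp [h]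

/-- The equations of a set with convolution square constant off the identity. -/
theorem design_eqs {p : DihedralGroup m → Prop} (hp : Inv D p) (c : ℤ)
    (hc : ∀ d, d ≠ 1 → (el (ind ℤ p) * el (ind ℤ p)).coeff d = c) :
    ∃ e x y : ℤ, x = ∑ i, (rotPart p).coeff i ∧ y = ∑ i, (refPart p).coeff i ∧
      e = x + y - c ∧
      rotPart p * rotPart p + st (refPart p) * refPart p = e • 1 + c • allOne ∧
      2 * (rotPart p * refPart p) = c • allOne ∧
      x * x + y * y = e + c * m ∧ 2 * (x * y) = c * m := by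
  set X := rotPart p with hX
  set Y := refPart p with hY
  have hst : st X = X := st_rot D (inv_ind D ℤ hp)
  have hsq := mk_sq hst Y
  set x := ∑ i, X.coeff i with hxd
  set y := ∑ i, Y.coeff i with hyd
  have hc' : ∀ d, d ≠ 1 → (mk (X * X + st Y * Y) (2 * (X * Y))).coeff d = c := by
    intro d hd
    rw [← hsq, hX, hY, ← el_ind_eq]
    exact hc d hd
  have e1 : X * X + st Y * Y = (x + y - c) • 1 + c • allOne := by
    ext k
    rw [AddMonoidAlgebra.coeff_add, AddMonoidAlgebra.coeff_add, Finsupp.add_apply,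
      Finsupp.add_apply, coeff_zsmul, coeff_zsmul, coeff_allOne]
    rcases eq_or_ne k 0 with rfl | hk
    · rw [hX, hY, rot_sq_coeff_zero D hp, ref_sq_coeff_zero p, AddMonoidAlgebra.coeff_one_zero]
      ring
    · have := hc' (r k) (by rw [one_def]; exact fun h => hk (r.inj h))
      rw [coeff_mk_r, AddMonoidAlgebra.coeff_add, Finsupp.add_apply] at this
      rw [this]
      simp [AddMonoidAlgebra.one_def, Finsupp.single_apply, Ne.symm hk]
  have e2 : 2 * (X * Y) = c • allOne := by
    ext k
    have := hc' (sr k) (by rw [one_def]; exact fun h => by cases h)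
    rw [coeff_mk_sr] at this
    rw [this, coeff_zsmul]
    simp
  have hone : ∑ i, (1 : AddMonoidAlgebra ℤ (ZMod m)).coeff i = 1 := by
    simp [AddMonoidAlgebra.one_def, Finsupp.single_apply]
  refine ⟨x + y - c, x, y, rfl, rfl, rfl, e1, e2, ?_, ?_⟩
  · have := congrArg (fun z : AddMonoidAlgebra ℤ (ZMod m) => ∑ i, z.coeff i) e1
    simp only [AddMonoidAlgebra.coeff_add, Finsupp.add_apply, Finset.sum_add_distrib, sum_coeff_mul,
      sum_coeff_st, coeff_zsmul, ← Finset.mul_sum, hone, coeff_allOne] at this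
    rw [this]
    simp
  · have := congrArg (fun z : AddMonoidAlgebra ℤ (ZMod m) => ∑ i, z.coeff i) e2
    simp only [two_mul, AddMonoidAlgebra.coeff_add, Finsupp.add_apply, Finset.sum_add_distrib,
      sum_coeff_mul, coeff_zsmul, ← Finset.mul_sum, coeff_allOne] at this
    rw [two_mul, this]
    simp

end Cfsg.Agent.DihedralB
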