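import Cfsg.Agent.Lib.DihedralBGroup.Design

/-!
# No multiplier-stable invariant set has rotation part of odd prime period

`false_of_odd`.
-/

set_option autoImplicit false

namespace Cfsg.Agent.DihedralB

open scoped Classical
open DihedralGroup

variable {G Ω : Type*} [Group G] [MulAction G Ω] {m : ℕ} [NeZero m] (D : Reg G Ω m)

theorem arith_odd {x y c m l : ℤ} (hl : 3 ≤ l) (hlm : l ∣ m) (hm : 0 < m) (hl2 : ¬ l ∣ 8)
    (hx : 0 < x) (hy : 0 < y) (hxm : x < m) (h1 : x * x + y * y = (x + y - c) + c * m)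
    (h2 : 2 * (x * y) = c * m) (h3 : l * (x * (m - x)) ≤ (m - l) * (x + y - c)) : False := by
  have he : x + y - c = (x - y) * (x - y) := by linear_combination -h1 + h2
  have hmx : 0 < x * (m - x) := mul_pos hx (by omega)
  have hs0 : x ≠ y := by
    intro h
    rw [he, h] at h3
    simp only [sub_self, mul_zero] at h3
    subst h
    nlinarith
  have hc : 0 < c := by
    by_contra hneg
    nlinarith [mul_pos hx hy, mul_nonpos_of_nonpos_of_nonneg (not_lt.1 hneg) hm.le]
  set e := (x - y) * (x - y) with hedef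
  have hepos : 0 < e := mul_self_pos.2 (sub_ne_zero.2 hs0)
  rw [he] at h3
  have h4 : 3 * (x * (m - x)) < m * e := by nlinarith
  have h5 : 3 * x * (2 * y - c) < 2 * y * e := by
    have h6 : c * (3 * (x * (m - x))) < c * (m * e) := by nlinarith
    have h7 : x * (3 * x * (2 * y - c)) < x * (2 * y * e) := by
      calc x * (3 * x * (2 * y - c)) = c * (3 * (x * (m - x))) := by linear_combination 3 * x * h2
        _ < c * (m * e) := h6
        _ = x * (2 * y * e) := by linear_combination -e * h2
    exact lt_of_mul_lt_mul_left h7 hx.le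
  rw [show 2 * y - c = y - x + e by linarith] at h5
  rcases lt_or_gt_of_ne hs0 with hlt | hgt
  · obtain ⟨s, hs, rfl⟩ : ∃ s, 0 < s ∧ y = x + s := ⟨y - x, by omega, by ring⟩
    have h6 : x * (s + 3) < 2 * (s * s) := by
      have : s * (3 * x * (1 + s)) < s * (2 * (x + s) * s) := by rw [hedef] at h5; linarith [h5]
      have := lt_of_mul_lt_mul_left this hs.le
      linarith
    have h7 : 0 < 2 * x + s - s * s := by rw [hedef] at he; linarith
    have hsb : s ≤ 4 := by
      by_contra hcon
      nlinarith [mul_le_mul_of_nonneg_left (show 5 ≤ s by omega) hs.le]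
    have hxb : x ≤ 8 := by nlinarith
    interval_cases s <;> interval_cases x <;> omega
  · obtain ⟨s, hs, rfl⟩ : ∃ s, 0 < s ∧ x = y + s := ⟨x - y, by omega, by ring⟩
    have hs3 : s < 3 := by
      by_contra hcon
      rw [hedef] at h5
      nlinarith [mul_nonneg (mul_nonneg hs.le hy.le) (show 0 ≤ s - 3 by omega),
        mul_pos (mul_pos hs hs) (show 0 < s - 1 by omega)]
    interval_cases s
    · have hcy : c = 2 * y := by rw [hedef] at he; linarith
      rw [hcy] at h2
      have : y * (y + 1 - m) = 0 := by linarith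
      rcases mul_eq_zero.1 this with h | h <;> omega
    · have hcy : c = 2 * y - 2 := by rw [hedef] at he; linarith
      rw [hcy] at h2
      have h7 : (y - 1) * (m - y - 3) = 3 := by linarith
      have hb : y - 1 ∣ 3 := ⟨_, h7.symm⟩
      have hb2 : y - 1 ≤ 3 := Int.le_of_dvd (by norm_num) hb
      have hy4 : y ≤ 4 := by omega
      interval_cases y <;> (try omega)
      all_goals
        have : m = 8 := by linarith
        exact hl2 (this ▸ hlm)

variable [MulAction.IsPreprimitive G Ω]

/-- The level sets of an invariant function are invariant. -/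
theorem inv_level {α : Type*} {f : DihedralGroup m → α} (hf : Inv D f) (a : α) :
    Inv D (fun z => z ≠ 1 ∧ f z = a) := by
  intro g hg d
  have h := inv_ite D (0 : ℕ) 1 g hg d
  have h' : pi D g d = 1 ↔ d = 1 := by
    by_cases h1 : d = 1
    · subst h1; simp [pi_one D hg]
    · simp only [h1, iff_false]
      intro h2
      simp [h1, h2] at h
  simp only [ne_eq, h', hf g hg d]

/-- No invariant set without `1`, stable under multipliers, has rotation part of odd prime
period. -/
theorem false_of_odd (hm : 2 ≤ m) {l q : ℕ} (hl : l.Prime) (hl2 : l ≠ 2) (hlq : l * q = m)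
    {p : DihedralGroup m → Prop} (hp : Inv D p) (h1 : ¬ p 1) {d0 : DihedralGroup m} (hd0 : p d0)
    (hstab : ∀ (u : (ZMod m)ˣ) (i : ZMod m), p (r (u * i)) ↔ p (r i))
    (hper : Per (q : ZMod m) fun i => p (r i)) : False := by
  have hd01 : d0 ≠ 1 := fun h => h1 (h ▸ hd0)
  set g := el (ind ℤ p) * el (ind ℤ p) with hg
  have hgi : InvEl D g := (invEl_el D (inv_ind D ℤ hp)).mul D (invEl_el D (inv_ind D ℤ hp))
  set X := rotPart p with hX
  set Y := refPart p
  have hst : st X = X := st_rot D (inv_ind D ℤ hp)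
  have hgsq : g = mk (X * X + st Y * Y) (2 * (X * Y)) := by rw [hg, el_ind_eq]; exact mk_sq hst Y
  have hXper : Per (q : ZMod m) X.coeff := fun i => by simp [X, rotPart, ind, hper i]
  have hgY : Per (q : ZMod m) fun i => g.coeff (sr i) := by
    have := (Per.mul Y hXper)
    intro i
    simp only [hgsq, coeff_mk_sr, two_mul, AddMonoidAlgebra.coeff_add, Finsupp.add_apply, this i]
  have hq0 : 0 < q := Nat.pos_of_ne_zero fun h => by rw [h, mul_zero] at hlq; omega
  have hl2' := hl.two_le
  have hq1 : q < m := by nlinarith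
  -- all values off `1` agree
  have hval : ∀ d, d ≠ 1 → g.coeff d = g.coeff (r (q : ZMod m)) := by
    intro d hd
    have hne : ∀ k : ZMod m, (sr k : DihedralGroup m) ≠ 1 := fun k h => by
      rw [one_def] at h; cases h
    obtain ⟨j, hj, hj1, hje⟩ := exists_mem_period D hl hlq
      (p := fun z => z ≠ 1 ∧ g.coeff z = g.coeff d) (inv_level D hgi _) (fun h => h.1 rfl) (d := d)
      ⟨hd, rfl⟩ (fun i => by
        have := hgY i
        simp only at this
        simp only [ne_eq, hne, not_false_eq_true, true_and, this])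
    obtain ⟨t, ht, rfl⟩ := (nsmul_eq_zero_iff' hlq j).1 hj
    have ht0 : t ≠ 0 := by rintro rfl; simp at hj1
    haveI : NeZero l := ⟨hl.ne_zero⟩
    haveI := Fact.mk hl
    obtain ⟨u, hu⟩ := ZMod.unitsMap_surjective (n := l) (m := m) (Dvd.intro q hlq)
      (Units.mk0 (t : ZMod l) (by
        rw [Ne, ZMod.natCast_eq_zero_iff]
        exact fun h => by have := Nat.le_of_dvd (Nat.pos_of_ne_zero ht0) h; omega))
    have hu' : ((u : ZMod m).val : ZMod l) = (t : ZMod l) := by
      have := congrArg Units.val hu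
      simpa [ZMod.unitsMap_def, ZMod.castHom_apply, ← ZMod.natCast_val] using this
    have hmul : (u : ZMod m) * (q : ZMod m) = (t : ZMod m) * (q : ZMod m) := by
      rw [← ZMod.natCast_zmod_val (u : ZMod m), ← Nat.cast_mul, ← Nat.cast_mul,
        ZMod.natCast_eq_natCast_iff']
      rw [ZMod.natCast_eq_natCast_iff'] at hu'
      have e1 := Nat.mul_mod_mul_right q ((u : ZMod m).val) l
      have e2 := Nat.mul_mod_mul_right q t l
      rw [hlq] at e1 e2
      rw [e1, e2, hu']
    rw [← hje, ← hmul]
    exact sq_coeff_unit D hm hp hstab u q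
  obtain ⟨e, x, y, hxd, hyd, hed, e1, e2, s1, s2⟩ := design_eqs D hp _ hval
  rw [← hX] at hxd e1 e2
  set c := g.coeff (r (q : ZMod m))
  obtain ⟨hxpos, hypos⟩ := sum_parts_pos D hm hp hd01 hd0
  rw [← hX, ← hxd] at hxpos
  rw [← hyd] at hypos
  have hX0 : X.coeff 0 = 0 := by simp [X, rotPart, ind, h1]
  have hxm : x < m := by
    rw [hxd]
    calc ∑ i, X.coeff i < ∑ _i : ZMod m, (1 : ℤ) :=
          Finset.sum_lt_sum (fun i _ => by
              rcases rotPart_zero_or_one p i with h | h <;> rw [← hX] at h <;> omega)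
            ⟨0, Finset.mem_univ _, by omega⟩
      _ = m := by simp
  set V := X * X with hV
  have hv0 : V.coeff 0 = x := by rw [hV, hX, rot_sq_coeff_zero D hp, ← hX, ← hxd]
  have hsumV : ∑ i, V.coeff i = x * x := by rw [hV, sum_coeff_mul, hxd]
  have hN : 2 * (V * V).coeff 0 = 2 * (e * x) + 2 * c * (x * x) - c * (x * y) := by
    have h2V : 2 * (V * V) = 2 * (e • V) + 2 * (c • (V * allOne)) - c • (st Y * X * allOne) := by
      have : V = e • 1 + c • allOne - st Y * Y := eq_sub_of_add_eq e1
      calc 2 * (V * V) = 2 * (V * (e • 1 + c • allOne - st Y * Y)) := by rw [← this]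
        _ = 2 * (e • V) + 2 * (c • (V * allOne)) - st Y * X * (2 * (X * Y)) := by
            rw [mul_sub, mul_add, mul_smul_comm, mul_smul_comm, mul_one, hV]; ring
        _ = _ := by rw [e2]; simp only [zsmul_eq_mul]; ring
    have h3 := congrArg (fun z : AddMonoidAlgebra ℤ (ZMod m) => z.coeff 0) h2V
    simp only [mul_allOne, two_mul, AddMonoidAlgebra.coeff_add, Finsupp.add_apply,
      AddMonoidAlgebra.coeff_sub, Finsupp.sub_apply, coeff_zsmul, coeff_allOne, mul_one] at h3
    rw [hv0, hsumV, sum_coeff_mul, sum_coeff_st, ← hxd, ← hyd] at h3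
    linear_combination h3
  have hVst : ∀ i, V.coeff (-i) = V.coeff i := fun i => by
    rw [← coeff_st, hV, map_mul, hst]
  have hN2 : (V * V).coeff 0 = ∑ i, V.coeff i * V.coeff i := by
    rw [coeff_mul_eq_sum]; simp [hVst]
  have hVper : Per (q : ZMod m) V.coeff := Per.mul X hXper
  set S := (Finset.range l).image (fun t : ℕ => (t : ZMod m) * (q : ZMod m))
  have hScard : S.card = l := by
    rw [Finset.card_image_of_injOn, Finset.card_range]
    intro a ha b hb hab
    simp only [Finset.coe_range, Set.mem_Iio] at ha hb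
    simp only [← Nat.cast_mul] at hab
    have h := congrArg ZMod.val hab
    rw [ZMod.val_natCast_of_lt (by nlinarith), ZMod.val_natCast_of_lt (by nlinarith)] at h
    exact Nat.eq_of_mul_eq_mul_right hq0 h
  have hSv : ∀ i ∈ S, V.coeff i = x := by
    intro i hi
    obtain ⟨t, -, rfl⟩ := Finset.mem_image.1 hi
    clear hi
    induction t with
    | zero => simpa using hv0
    | succ t ih => rw [Nat.cast_succ, add_one_mul, hVper, ih]
  have hCS := sq_sum_le_card_mul_sum_sq (s := Sᶜ) (f := fun i => V.coeff i)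
  have hA : ∑ i ∈ Sᶜ, V.coeff i = x * x - l * x := by
    rw [eq_sub_iff_add_eq, ← hsumV, ← Finset.sum_compl_add_sum S,
      Finset.sum_congr rfl hSv, Finset.sum_const, hScard, nsmul_eq_mul]
  have hB : ∑ i ∈ Sᶜ, V.coeff i ^ 2 = (V * V).coeff 0 - l * (x * x) := by
    rw [eq_sub_iff_add_eq, hN2, ← Finset.sum_compl_add_sum S (fun i => V.coeff i * V.coeff i),
      Finset.sum_congr rfl (fun i hi => by rw [hSv i hi] : ∀ i ∈ S, V.coeff i * V.coeff i = x * x),
      Finset.sum_const, hScard, nsmul_eq_mul]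
    simp [pow_two]
  have hlm : l ≤ m := Nat.le_of_dvd (by omega) ⟨q, hlq.symm⟩
  rw [hA, hB, Finset.card_compl, hScard, ZMod.card, Nat.cast_sub hlm] at hCS
  have hl3 : (3 : ℤ) ≤ l := by exact_mod_cast (show 3 ≤ l by omega)
  have hl8 : ¬ (l : ℤ) ∣ 8 := by
    rw [show (8 : ℤ) = ((8 : ℕ) : ℤ) from rfl, Int.natCast_dvd_natCast,
      show 8 = 2 ^ 3 from rfl]
    exact fun h => hl2 ((Nat.prime_dvd_prime_iff_eq hl Nat.prime_two).1 (hl.dvd_of_dvd_pow h))
  have hmN : (m : ℤ) * (V * V).coeff 0 = e * m * x + x * x * (x * x) - e * (x * x) := by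
    have : 2 * ((m : ℤ) * (V * V).coeff 0) = 2 * (e * m * x + x * x * (x * x) - e * (x * x)) := by
      linear_combination (m : ℤ) * hN + (x * y - 2 * (x * x)) * s2 - 2 * (x * x) * (s1 - s2)
    linarith
  refine arith_odd hl3 (Int.natCast_dvd_natCast.2 ⟨q, hlq.symm⟩) (by omega) hl8 hxpos hypos hxm
    (hed ▸ s1) s2 ?_
  rw [← hed]
  have hmx : 0 < x * ((m : ℤ) - x) := mul_pos hxpos (by omega)
  refine le_of_mul_le_mul_left ?_ hmx
  have hCS' := mul_le_mul_of_nonneg_left hCS (show (0 : ℤ) ≤ m by omega)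
  have e3 : ((m : ℤ) - l) * ((m : ℤ) * (V * V).coeff 0) =
      ((m : ℤ) - l) * (e * m * x + x * x * (x * x) - e * (x * x)) := by rw [hmN]
  linear_combination hCS' + e3

end Cfsg.Agent.DihedralB
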