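import Cfsg.Agent.Lib.DihedralBGroup.DesignOdd

/-!
# No invariant set has rotation part inside a proper subgroup with period of order two

`false_of_two`.
-/

set_option autoImplicit false

namespace Cfsg.Agent.DihedralB

open scoped Classical
open DihedralGroup

/-- There is no `4`-subset of `ZMod 8` meeting each coset of `{0, 4}` once with every difference
outside `{0, 4}` occurring twice. -/
theorem no_eight : ∀ f : ZMod 8 → Bool,
    ¬ ((∀ j, f j ≠ f (j + 4)) ∧ ∀ k : ZMod 8, k ≠ 0 → k ≠ 4 →
      (Finset.univ.filter fun i => f i ∧ f (i + k)).card = 2) := by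
  decide +kernel

theorem neg_eight : ∀ a : ZMod 8, -a = a ∨ -a = a + 4 → a + a = 0 ∨ a + a = 4 := by
  decide +kernel

theorem pair_eight : ∀ a b : ZMod 8, a + a = 0 ∨ a + a = 4 → b ≠ 0 → b ≠ 4 →
    ¬ (b - a = a ∨ b - a = a + 4) ∧ ¬ (b - (a + 4) = a ∨ b - (a + 4) = a + 4) := by
  decide +kernel

variable {G Ω : Type*} [Group G] [MulAction G Ω] {m : ℕ} [NeZero m] (D : Reg G Ω m)
variable [MulAction.IsPreprimitive G Ω]

/-- No invariant set has rotation part inside a proper subgroup containing the involution and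
periodic under it. -/
theorem false_of_two (hm : 2 ≤ m) {q : ℕ} (hlq : 2 * q = m) (K : AddSubgroup (ZMod m))
    (hK : K ≠ ⊤) (hqK : (q : ZMod m) ∈ K)
    {p : DihedralGroup m → Prop} (hp : Inv D p) {d0 : DihedralGroup m} (hd01 : d0 ≠ 1) (hd0 : p d0)
    (hsub : ∀ i, p (r i) → i ∈ K) (hper : Per (q : ZMod m) fun i => p (r i)) : False := by
  set g := el (ind ℤ p) * el (ind ℤ p) with hg
  have hgi : InvEl D g := (invEl_el D (inv_ind D ℤ hp)).mul D (invEl_el D (inv_ind D ℤ hp))
  set X := rotPart p with hX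
  set Y := refPart p with hY
  have hst : st X = X := st_rot D (inv_ind D ℤ hp)
  have hgsq : g = mk (X * X + st Y * Y) (2 * (X * Y)) := by rw [hg, el_ind_eq]; exact mk_sq hst Y
  have hXper : Per (q : ZMod m) X.coeff := fun i => by simp [X, rotPart, ind, hper i]
  have hgY : Per (q : ZMod m) fun i => g.coeff (sr i) := by
    have := (Per.mul Y hXper)
    intro i
    simp only [hgsq, coeff_mk_sr, two_mul, AddMonoidAlgebra.coeff_add, Finsupp.add_apply, this i]
  have hval : ∀ d, d ≠ 1 → g.coeff d = g.coeff (r (q : ZMod m)) := by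
    intro d hd
    have hne : ∀ k : ZMod m, (sr k : DihedralGroup m) ≠ 1 := fun k h => by
      rw [one_def] at h; cases h
    obtain ⟨j, hj, hj1, hje⟩ := exists_mem_period D Nat.prime_two hlq
      (p := fun z => z ≠ 1 ∧ g.coeff z = g.coeff d) (inv_level D hgi _) (fun h => h.1 rfl) (d := d)
      ⟨hd, rfl⟩ (fun i => by
        have := hgY i
        simp only at this
        simp only [ne_eq, hne, not_false_eq_true, true_and, this])
    obtain ⟨t, ht, rfl⟩ := (nsmul_eq_zero_iff' hlq j).1 hj
    interval_cases t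
    · simp at hj1
    · simpa using hje.symm
  obtain ⟨e, x, y, hxd, hyd, hed, e1, e2, s1, s2⟩ := design_eqs D hp _ hval
  rw [← hX] at hxd e1 e2
  rw [← hY] at hyd e1 e2
  set c := g.coeff (r (q : ZMod m))
  obtain ⟨hxpos, hypos⟩ := sum_parts_pos D hm hp hd01 hd0
  rw [← hX, ← hxd] at hxpos
  rw [← hY, ← hyd] at hypos
  set kK : AddMonoidAlgebra ℤ (ZMod m) := ofFun fun i => if i ∈ K then 1 else 0 with hkK
  set h : ℤ := ((Finset.univ.filter (· ∈ K)).card : ℤ) with hh
  have hsumK : ∑ i, kK.coeff i = h := by simp [hkK, hh, Finset.sum_boole]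
  have hXsub : ∀ i, i ∉ K → X.coeff i = 0 := fun i hi => by
    have : ¬ p (r i) := fun h' => hi (hsub i h')
    simp [X, rotPart, ind, this]
  have hsubK : ∀ k i, i ∈ K → (k - i ∈ K ↔ k ∈ K) := fun k i hi =>
    ⟨fun h' => by simpa using K.add_mem h' hi, fun h' => K.sub_mem h' hi⟩
  have hXK : X * kK = x • kK := by
    ext k
    rw [coeff_mul_eq_sum, coeff_zsmul, hxd, Finset.sum_mul]
    refine Finset.sum_congr rfl fun i _ => ?_
    by_cases hi : i ∈ K
    · simp [hkK, hsubK k i hi]
    · simp [hXsub i hi]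
  have hout : ∀ k, k ∉ K → (X * X).coeff k = 0 := by
    intro k hk
    rw [coeff_mul_eq_sum]
    refine Finset.sum_eq_zero fun i _ => ?_
    by_cases hi : i ∈ K
    · rw [hXsub (k - i) (fun h' => hk ((hsubK k i hi).1 h')), mul_zero]
    · rw [hXsub i hi, zero_mul]
  have hWout : ∀ k, k ∉ K → (st Y * Y).coeff k = c := by
    intro k hk
    have h3 := congrArg (fun z : AddMonoidAlgebra ℤ (ZMod m) => z.coeff k) e1
    simp only [AddMonoidAlgebra.coeff_add, Finsupp.add_apply, hout k hk, zero_add, coeff_zsmul,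
      coeff_allOne] at h3
    rw [h3]
    have : k ≠ 0 := fun h0 => hk (h0 ▸ K.zero_mem)
    simp [AddMonoidAlgebra.one_def, Finsupp.single_apply, this.symm]
  -- the part inside `K`
  have hSK : 2 * x * ∑ k ∈ Finset.univ.filter (· ∈ K), (st Y * Y).coeff k = c * h * y := by
    have h4 : 2 * ((st Y * Y) * (X * kK)) = (c • allOne) * (st Y * kK) := by rw [← e2]; ring
    rw [hXK, mul_smul_comm, mul_smul_comm, smul_mul_assoc, mul_comm allOne, mul_allOne] at h4
    have h5 := congrArg (fun z : AddMonoidAlgebra ℤ (ZMod m) => z.coeff 0) h4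
    simp only [two_mul, AddMonoidAlgebra.coeff_add, Finsupp.add_apply, coeff_zsmul, coeff_allOne,
      sum_coeff_mul, sum_coeff_st, hsumK, ← hyd] at h5
    rw [show ∑ k ∈ Finset.univ.filter (· ∈ K), (st Y * Y).coeff k = ((st Y * Y) * kK).coeff 0 from ?_]
    · linear_combination h5
    · rw [coeff_mul_eq_sum, Finset.sum_filter]
      exact Finset.sum_congr rfl fun i _ => by by_cases hi : i ∈ K <;> simp [hkK, hi]
  have hout2 : ∑ k ∈ Finset.univ.filter (fun k => k ∉ K), (st Y * Y).coeff k = ((m : ℤ) - h) * c := by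
    rw [Finset.sum_congr rfl (fun k hk => hWout k (Finset.mem_filter.1 hk).2), Finset.sum_const,
      nsmul_eq_mul]
    congr 1
    rw [eq_sub_iff_add_eq, hh, ← Nat.cast_add, add_comm,
      Finset.card_filter_add_card_filter_not (fun k => k ∈ K)]
    simp
  have htot : y * y = (∑ k ∈ Finset.univ.filter (· ∈ K), (st Y * Y).coeff k) + ((m : ℤ) - h) * c := by
    rw [← hout2, Finset.sum_filter_add_sum_filter_not, sum_coeff_mul, sum_coeff_st, hyd]
  have hhm : h < m := by
    obtain ⟨k, hk⟩ : ∃ k, k ∉ K := by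
      by_contra hcon
      push Not at hcon
      exact hK ((AddSubgroup.eq_top_iff' K).2 hcon)
    rw [hh, Nat.cast_lt]
    calc (Finset.univ.filter (· ∈ K)).card < (Finset.univ : Finset (ZMod m)).card :=
          Finset.card_lt_card (Finset.ssubset_iff_of_subset (Finset.filter_subset _ _) |>.2
            ⟨k, Finset.mem_univ _, by simp [hk]⟩)
      _ = m := by simp
  have hc : 0 < c := by
    by_contra hneg
    nlinarith [mul_pos hxpos hypos, mul_nonpos_of_nonpos_of_nonneg (not_lt.1 hneg)
      (show (0 : ℤ) ≤ m by omega)]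
  have hy2 : y = 2 * x := by
    have h6 : c * ((m : ℤ) - h) * (y - 2 * x) = 0 := by
      linear_combination 2 * x * htot + hSK - y * s2
    rcases mul_eq_zero.1 h6 with h7 | h7
    · rcases mul_eq_zero.1 h7 with h8 | h8 <;> omega
    · omega
  subst hy2
  have hce : c = 3 * x - x * x := by
    have : x + 2 * x - c = x * x := by linear_combination -hed + s2 - s1
    linarith
  have hx3 : x < 3 := by nlinarith
  have hx1 : x ≠ 1 := by
    rintro rfl
    rw [hce] at s2
    have hm2 : m = 2 := by omega
    apply hK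
    rw [AddSubgroup.eq_top_iff']
    intro k
    have hq1 : q = 1 := by omega
    rw [hq1, Nat.cast_one] at hqK
    have := K.nsmul_mem hqK k.val
    rwa [nsmul_one, ZMod.natCast_zmod_val] at this
  obtain rfl : x = 2 := by omega
  have hc2 : c = 2 := by rw [hce]; norm_num
  rw [hc2] at e1 e2 s2
  have hm8 : m = 8 := by omega
  subst hm8
  obtain rfl : q = 4 := by omega
  obtain ⟨i, hi⟩ : ∃ i, p (r i) := by
    obtain ⟨i, hi⟩ := exists_r_cls D hm hd01
    exact ⟨i, (iff_of_eq (hp.eq_of_cls D hi)).2 hd0⟩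
  have hi4 : p (r (i + 4)) := by simpa using (iff_of_eq (hper i)).2 hi
  have hne4 : i + 4 ≠ i := by
    intro h'
    have : (4 : ZMod 8) = 0 := by simpa using h'
    exact absurd this (by decide)
  have hXeq : ∀ j, X.coeff j = if j = i ∨ j = i + 4 then 1 else 0 := by
    intro j
    by_cases hj : j = i ∨ j = i + 4
    · rw [if_pos hj]
      rcases hj with rfl | rfl <;> simp [X, rotPart, ind, hi, hi4]
    · rw [if_neg hj]
      push Not at hj
      rcases rotPart_zero_or_one p j with h' | h'
      · exact h'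
      · exfalso
        rw [← hX] at h'
        have h1' : X.coeff i = 1 := by simp [X, rotPart, ind, hi]
        have h2' : X.coeff (i + 4) = 1 := by simp [X, rotPart, ind, hi4]
        have hsum : ∑ k ∈ ({i, i + 4, j} : Finset (ZMod 8)), X.coeff k ≤ 2 := by
          rw [hxd]
          exact Finset.sum_le_sum_of_subset_of_nonneg (Finset.subset_univ _)
            fun k _ _ => by rcases rotPart_zero_or_one p k with h | h <;> rw [← hX] at h <;> omega
        rw [Finset.sum_insert (by simp [hne4.symm, hj.1.symm]),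
          Finset.sum_insert (by simp [hj.2.symm]), Finset.sum_singleton, h1', h2', h'] at hsum
        omega
  have hXmul : ∀ (Z : AddMonoidAlgebra ℤ (ZMod 8)) (k : ZMod 8),
      (X * Z).coeff k = Z.coeff (k - i) + Z.coeff (k - (i + 4)) := by
    intro Z k
    rw [coeff_mul_eq_sum]
    have hsub' : ({i, i + 4} : Finset (ZMod 8)) ⊆ Finset.univ := Finset.subset_univ _
    rw [← Finset.sum_subset hsub' (fun j _ hj => by
      simp only [Finset.mem_insert, Finset.mem_singleton] at hj
      rw [hXeq j, if_neg hj, zero_mul])]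
    rw [Finset.sum_pair hne4.symm, hXeq, hXeq, if_pos (Or.inl rfl), if_pos (Or.inr rfl), one_mul,
      one_mul]
  have hY01 := fun k => refPart_zero_or_one (m := 8) p k
  rw [← hY] at hY01
  refine no_eight (fun k => decide (Y.coeff k = 1)) ⟨fun j hf => ?_, fun k hk0 hk4 => ?_⟩
  · have h3 := congrArg (fun z : AddMonoidAlgebra ℤ (ZMod 8) => z.coeff (j + (i + 4))) e2
    simp only [two_mul, AddMonoidAlgebra.coeff_add, Finsupp.add_apply, hXmul, coeff_zsmul,
      coeff_allOne, add_sub_cancel_right] at h3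
    rw [show j + (i + 4) - i = j + 4 by ring] at h3
    simp only [decide_eq_decide] at hf
    rcases hY01 j with a | a <;> rcases hY01 (j + 4) with b | b <;> simp [a, b] at hf h3
  · have hii : i + i = 0 ∨ i + i = 4 := by
      have h1' : X.coeff (-i) = 1 := by
        rw [← coeff_st X i, hst, hXeq, if_pos (Or.inl rfl)]
      rw [hXeq] at h1'
      exact neg_eight i (by by_contra hne; simp [hne] at h1')
    have hXX : (X * X).coeff k = 0 := by
      rw [hXmul, hXeq, hXeq, if_neg (pair_eight i k hii hk0 hk4).1, if_neg (pair_eight i k hii hk0 hk4).2]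
      rfl
    have h3 := congrArg (fun z : AddMonoidAlgebra ℤ (ZMod 8) => z.coeff k) e1
    simp only [AddMonoidAlgebra.coeff_add, Finsupp.add_apply, hXX, zero_add, coeff_zsmul,
      coeff_allOne, AddMonoidAlgebra.one_def, AddMonoidAlgebra.coeff_single, Finsupp.single_apply,
      if_neg hk0.symm, mul_zero, mul_one] at h3
    rw [coeff_mul_eq_sum, ← Equiv.sum_comp (Equiv.neg (ZMod 8))] at h3
    simp only [coeff_st, Equiv.neg_apply, neg_neg, sub_neg_eq_add] at h3
    rw [← Nat.cast_inj (R := ℤ), Finset.card_filter, Nat.cast_sum, Nat.cast_ofNat]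
    refine Eq.trans (Finset.sum_congr rfl fun j _ => ?_) h3
    rw [add_comm k j]
    rcases hY01 j with a | a <;> rcases hY01 (j + k) with b | b <;> simp [a, b]

end Cfsg.Agent.DihedralB
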