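import Cfsg.Agent.Lib.DihedralBGroup.GroupRing

/-!
# Invariant sets: multipliers and periods

Multiplication by a unit of `ZMod m` permutes the traces of the suborbits on the rotations
(`cls_unit`), preserving suborbit lengths; an invariant set with periodic reflection part has
rotation part periodic outside the period subgroup (`rot_periodic`).
-/

set_option autoImplicit false

namespace Cfsg.Agent.DihedralB

open scoped Classical
open DihedralGroup

variable {G Ω : Type*} [Group G] [MulAction G Ω] {m : ℕ} [NeZero m] (D : Reg G Ω m)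

/-- The indicator function. -/
noncomputable def ind (R : Type*) [Zero R] [One R] (p : DihedralGroup m → Prop) :
    DihedralGroup m → R :=
  fun d => if p d then 1 else 0

theorem inv_ind (R : Type*) [Zero R] [One R] {p : DihedralGroup m → Prop} (hp : Inv D p) :
    Inv D (ind R p) := hp.comp D (fun q => if q then 1 else 0)

theorem mk_coeff {R : Type*} [CommRing R] (z : MonoidAlgebra R (DihedralGroup m)) :
    el (fun d => z.coeff d) = z := by
  ext d; simp

theorem map_el {R S : Type*} [CommRing R] [CommRing S] (f : R →+* S) (g : DihedralGroup m → R) :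
    MonoidAlgebra.mapRingHom (DihedralGroup m) f (el g) = el (fun d => f (g d)) := by
  ext d; simp [MonoidAlgebra.coeff_mapRingHom]

section Prim

variable [MulAction.IsPreprimitive G Ω]

theorem st_rot {R : Type*} [CommRing R] {f : DihedralGroup m → R} (hf : Inv D f) :
    st (ofFun fun i => f (r i)) = ofFun fun i => f (r i) := by
  ext i
  simp only [coeff_st, coeff_ofFun]
  rw [← hf.symm_apply D (r i)]
  simp

theorem el_sq_coeff_one {R : Type*} [CommRing R] {p : DihedralGroup m → Prop} (hp : Inv D p) :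
    (el (ind R p) * el (ind R p)).coeff 1 = (Finset.univ.filter p).card := by
  rw [MonoidAlgebra.coeff_mul_apply_left, Finsupp.sum_fintype _ _ (by simp), Finset.card_eq_sum_ones,
    Nat.cast_sum, Finset.sum_filter]
  refine Finset.sum_congr rfl fun d _ => ?_
  simp only [coeff_el, ind, mul_one]
  rw [hp.symm_apply D d]
  split_ifs <;> simp

theorem pow_prime_coeff (p : ℕ) [Fact p.Prime] (hodd : Odd p)
    {f : DihedralGroup m → ZMod p} (hf : Inv D f) (u : (ZMod m)ˣ) (hu : (p : ZMod m) = u)
    (i : ZMod m) : (el f ^ p).coeff (r (u * i)) = f (r i) := by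
  rw [el, mk_pow_char p hodd (st_rot D hf), coeff_mk_r, pow_char_coeff]
  simp only [coeff_ofFun, nsmul_eq_mul, hu, Units.mul_right_inj]
  simp

/-- A large prime in a prescribed residue class. -/
theorem exists_prime_unit (u : (ZMod m)ˣ) (N : ℕ) :
    ∃ p : ℕ, p.Prime ∧ Odd p ∧ N < p ∧ (p : ZMod m) = u := by
  obtain ⟨p, hp, hpr, hu⟩ := Nat.forall_exists_prime_gt_and_eq_mod u.isUnit (N + 2)
  exact ⟨p, hpr, hpr.odd_of_ne_two (by omega), by omega, hu⟩

/-- The convolution square of a multiplier-stable invariant set is multiplier-stable. -/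
theorem sq_coeff_unit (hm : 2 ≤ m) {q : DihedralGroup m → Prop} (hq : Inv D q)
    (hstab : ∀ (u : (ZMod m)ˣ) (i : ZMod m), q (r (u * i)) ↔ q (r i))
    (u : (ZMod m)ˣ) (i : ZMod m) :
    (el (ind ℤ q) * el (ind ℤ q)).coeff (r (u * i)) =
      (el (ind ℤ q) * el (ind ℤ q)).coeff (r i) := by
  set g := el (ind ℤ q) * el (ind ℤ q) with hg
  by_contra hne
  obtain ⟨p, hp, hodd, hlt, hu⟩ := exists_prime_unit u (g.coeff (r (u * i)) - g.coeff (r i)).natAbs
  haveI := Fact.mk hp
  apply hne
  set F := el (ind (ZMod p) q) with hF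
  have hFp : F ^ p = F := by
    ext d
    have hi : InvEl D (F ^ p) := (invEl_el D (inv_ind D (ZMod p) hq)).pow D p
    rcases eq_or_ne d 1 with rfl | hd
    · have := pow_prime_coeff D p hodd (inv_ind D (ZMod p) hq) u hu 0
      rw [mul_zero, ← one_def] at this
      rw [this, hF, coeff_el]
    · refine Inv.ext_r D hm hi (invEl_el D (inv_ind D (ZMod p) hq)) (fun j _ => ?_) hd
      obtain ⟨j, rfl⟩ : ∃ j', ↑u * j' = j := ⟨↑u⁻¹ * j, by simp⟩
      rw [pow_prime_coeff D p hodd (inv_ind D (ZMod p) hq) u hu, coeff_el]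
      simp only [ind, hstab u j]
  have h2 : (F * F) ^ p = F * F := by rw [(Commute.refl F).mul_pow, hFp]
  have hFF : InvEl D (F * F) := (invEl_el D (inv_ind D (ZMod p) hq)).mul D (invEl_el D (inv_ind D (ZMod p) hq))
  have h3 := pow_prime_coeff D p hodd hFF u hu i
  rw [mk_coeff, h2] at h3
  have hmap : MonoidAlgebra.mapRingHom (DihedralGroup m) (Int.castRingHom (ZMod p)) g = F * F := by
    rw [hg, map_mul, map_el, hF]
    congr 2 <;> funext d <;> simp [ind]
  simp only [← hmap, MonoidAlgebra.coeff_mapRingHom, eq_intCast] at h3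
  rw [← sub_eq_zero, ← Int.cast_sub, ZMod.intCast_zmod_eq_zero_iff_dvd] at h3
  by_contra hne'
  have := Int.natAbs_dvd_natAbs.2 h3
  simp at this
  exact absurd (Nat.le_of_dvd (Int.natAbs_pos.2 (sub_ne_zero.2 hne')) this) (by omega)

/-- Multipliers map suborbits to suborbits on the rotations. -/
theorem cls_unit (u : (ZMod m)ˣ) {i j : ZMod m}
    (h : cls D (r i) (r j)) : cls D (r (u * i)) (r (u * j)) := by
  obtain ⟨p, hp, hodd, -, hu⟩ := exists_prime_unit u⁻¹ 0
  haveI := Fact.mk hp
  set c := cls D (r (u * i))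
  have hz : InvEl D (el (ind (ZMod p) c) ^ p) :=
    (invEl_el D (inv_ind D (ZMod p) (inv_cls D _))).pow D p
  have hco : ∀ k, (el (ind (ZMod p) c) ^ p).coeff (r k) = ind (ZMod p) c (r (u * k)) := fun k => by
    have := pow_prime_coeff D p hodd (inv_ind D (ZMod p) (inv_cls D (r (u * i)))) u⁻¹ hu (u * k)
    rwa [← mul_assoc, ← Units.val_mul, inv_mul_cancel, Units.val_one, one_mul] at this
  have h1 := hz.eq_of_cls D h
  simp only [hco] at h1
  by_contra hne
  simp [ind, c, hne, cls_self] at h1

theorem cls_unit_iff (u : (ZMod m)ˣ) (i j : ZMod m) :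
    cls D (r (u * i)) (r (u * j)) ↔ cls D (r i) (r j) := by
  refine ⟨fun h => ?_, cls_unit D u⟩
  have := cls_unit D u⁻¹ h
  simpa [← mul_assoc] using this

theorem cls_card_unit (hm : 2 ≤ m) (u : (ZMod m)ˣ) {i : ZMod m} (hi : i ≠ 0) :
    (Finset.univ.filter (cls D (r (u * i)))).card = (Finset.univ.filter (cls D (r i))).card := by
  obtain ⟨p, hp, hodd, hlt, hu⟩ := exists_prime_unit u (Fintype.card (DihedralGroup m))
  haveI := Fact.mk hp
  set F := el (ind (ZMod p) (cls D (r i)))
  have hne : ∀ {k : ZMod m}, k ≠ 0 → (r k : DihedralGroup m) ≠ 1 := fun hk => by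
    rw [one_def]; exact fun h => hk (r.inj h)
  have hui : ↑u * i ≠ 0 := by simpa using hi
  have hFp : F ^ p = el (ind (ZMod p) (cls D (r (u * i)))) := by
    ext d
    have hI : InvEl D (F ^ p) := (invEl_el D (inv_ind D (ZMod p) (inv_cls D _))).pow D p
    rcases eq_or_ne d 1 with rfl | hd
    · have := pow_prime_coeff D p hodd (inv_ind D (ZMod p) (inv_cls D (r i))) u hu 0
      rw [mul_zero, ← one_def] at this
      rw [this, coeff_el, ind, ind, if_neg (fun h => cls_ne_one D (hne hi) h rfl),
        if_neg (fun h => cls_ne_one D (hne hui) h rfl)]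
    · refine Inv.ext_r D hm hI (invEl_el D (inv_ind D (ZMod p) (inv_cls D _))) (fun j _ => ?_) hd
      obtain ⟨j, rfl⟩ : ∃ j', ↑u * j' = j := ⟨↑u⁻¹ * j, by simp⟩
      rw [pow_prime_coeff D p hodd (inv_ind D (ZMod p) (inv_cls D (r i))) u hu, coeff_el]
      simp only [ind, cls_unit_iff D u i]
  let ε := MonoidAlgebra.lift (ZMod p) (ZMod p) (DihedralGroup m) 1
  have hε : ∀ q : DihedralGroup m → Prop,
      ε (el (ind (ZMod p) q)) = ((Finset.univ.filter q).card : ZMod p) := by
    intro q
    rw [MonoidAlgebra.lift_apply, Finsupp.sum_fintype _ _ (by simp)]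
    simp [ind, Finset.sum_boole]
  have := congrArg ε hFp
  rw [map_pow, hε, hε, ZMod.pow_card, ZMod.natCast_eq_natCast_iff'] at this
  have b : ∀ s : Finset (DihedralGroup m), s.card % p = s.card := fun s =>
    Nat.mod_eq_of_lt (lt_of_le_of_lt (Finset.card_le_univ s) hlt)
  rw [b, b] at this
  exact this.symm

end Prim

section Periods

variable {l q : ℕ}

theorem nsmul_eq_zero_iff' (hlq : l * q = m) (j : ZMod m) :
    l • j = 0 ↔ ∃ t < l, j = (t : ZMod m) * (q : ZMod m) := by
  have hm := NeZero.ne m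
  have hl : 0 < l := Nat.pos_of_ne_zero fun h => hm (by subst h; omega)
  constructor
  · intro h
    rw [nsmul_eq_mul, ← ZMod.natCast_zmod_val j, ← Nat.cast_mul, ZMod.natCast_eq_zero_iff] at h
    obtain ⟨t, ht⟩ : q ∣ j.val := Nat.dvd_of_mul_dvd_mul_left hl (by rwa [hlq])
    refine ⟨t, ?_, ?_⟩
    · by_contra hle
      have h1 : q * l ≤ j.val := ht ▸ Nat.mul_le_mul_left q (not_lt.1 hle)
      have h2 := ZMod.val_lt j
      rw [mul_comm] at h1
      omega
    · rw [← ZMod.natCast_zmod_val j, ht, Nat.cast_mul, mul_comm]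
  · rintro ⟨t, -, rfl⟩
    rw [nsmul_eq_mul, ← mul_assoc, mul_comm (l : ZMod m), mul_assoc, ← Nat.cast_mul, hlq,
      ZMod.natCast_self, mul_zero]

/-- Fibres of multiplication by `l` of cardinality divisible by `l` are full. -/
theorem add_mem_of_fibre (hlq : l * q = m) {X : ZMod m → Prop}
    (h : ∀ k : ZMod m, k ≠ 0 → (∑ i, if l • i = k then (if X i then (1 : ZMod l) else 0) else 0) = 0)
    {i : ZMod m} (hi : l • i ≠ 0) (hX : X i) : X (i + (q : ZMod m)) := by
  set S := Finset.univ.filter fun j => l • j = l • i ∧ X j with hS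
  have h1 : l ∣ S.card := by
    have := h _ hi
    simp only [← ite_and, Finset.sum_boole] at this
    rwa [← hS, ZMod.natCast_eq_zero_iff] at this
  have hsub : S ⊆ (Finset.range l).image (fun t : ℕ => i + (t : ZMod m) * (q : ZMod m)) := by
    intro j hj
    obtain ⟨hj1, -⟩ := (Finset.mem_filter.1 hj).2
    obtain ⟨t, ht, he⟩ := (nsmul_eq_zero_iff' hlq (j - i)).1 (by rw [smul_sub, hj1, sub_self])
    exact Finset.mem_image.2 ⟨t, Finset.mem_range.2 ht, by rw [← he]; ring⟩
  have hne : 0 < S.card := Finset.card_pos.2 ⟨i, by simp [hS, hX]⟩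
  have heq := Finset.eq_of_subset_of_card_le hsub
    (Finset.card_image_le.trans (by simpa using Nat.le_of_dvd hne h1))
  have hl : 0 < l := Nat.pos_of_ne_zero fun h0 => NeZero.ne m (by subst h0; omega)
  rcases Nat.lt_or_ge 1 l with hl1 | hl1
  · have : i + (q : ZMod m) ∈ S := by
      rw [heq]; exact Finset.mem_image.2 ⟨1, Finset.mem_range.2 hl1, by simp⟩
    exact (Finset.mem_filter.1 this).2.2
  · have : q = m := by rw [← hlq]; simp [show l = 1 by omega]
    simpa [this] using hX

variable [MulAction.IsPreprimitive G Ω]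

/-- An invariant set without `1` whose reflection part is periodic: the rotation part is periodic
outside the period subgroup. -/
theorem rot_periodic (hl : l.Prime) (hlq : l * q = m) {p : DihedralGroup m → Prop}
    (hp : Inv D p) (hY : Per (q : ZMod m) fun i => p (sr i)) {i : ZMod m}
    (hi : l • i ≠ 0) (hX : p (r i)) : p (r (i + (q : ZMod m))) := by
  haveI := Fact.mk hl
  refine add_mem_of_fibre hlq (X := fun i => p (r i)) (fun k hk => ?_) hi hX
  set x := ofFun fun i => ind (ZMod l) p (r i) with hx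
  set y := ofFun fun i => ind (ZMod l) p (sr i) with hy
  have hyp : Per (q : ZMod m) y.coeff := fun i => by simp [hy, ind, hY i]
  have hyy : st y * y = 0 := Per.mul_eq_zero l hlq hyp.st hyp
  have key : el (ind (ZMod l) p) ^ l = mk (x ^ l) 0 := by
    rcases hl.eq_two_or_odd' with rfl | hodd
    · rw [pow_two, el, mk_sq (st_rot D (inv_ind D _ hp)), hyy, add_zero, ← pow_two,
        show (2 : AddMonoidAlgebra (ZMod 2) (ZMod m)) = 0 from by
          rw [show (2 : AddMonoidAlgebra (ZMod 2) (ZMod m)) =
            algebraMap (ZMod 2) _ 2 from (map_ofNat _ 2).symm, show (2 : ZMod 2) = 0 from rfl,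
            map_zero], zero_mul]
    · rw [el, mk_pow_char l hodd (st_rot D (inv_ind D _ hp)), hyy,
        zero_pow (by have := hl.two_le; omega), mul_zero]
  have hkd : (r k : DihedralGroup m) ≠ 1 := by rw [one_def]; exact fun h => hk (r.inj h)
  have hzero : (el (ind (ZMod l) p) ^ l).coeff (r k) = 0 :=
    Inv.ext_sr D ((invEl_el D (inv_ind D _ hp)).pow D l) (inv_const D (0 : ZMod l))
      (fun j => by simp only [key, coeff_mk_sr]; simp) hkd
  rw [key, coeff_mk_r, pow_char_coeff] at hzero
  simpa [hx, ind] using hzero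

/-- Such a set meets the period subgroup or is empty. -/
theorem exists_mem_period (hl : l.Prime) (hlq : l * q = m) {p : DihedralGroup m → Prop}
    (hp : Inv D p) (h1 : ¬ p 1) {d : DihedralGroup m} (hd : p d)
    (hY : Per (q : ZMod m) fun i => p (sr i)) :
    ∃ j : ZMod m, l • j = 0 ∧ p (r j) := by
  by_contra hcon
  push Not at hcon
  have hq0 : l • (q : ZMod m) = 0 := by rw [nsmul_eq_mul, ← Nat.cast_mul, hlq, ZMod.natCast_self]
  have hX : ∀ i, p (r i) → p (r (i + (q : ZMod m))) := fun i hi =>
    rot_periodic D hl hlq hp hY (fun h => hcon i h hi) hi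
  have hX' : ∀ (t : ℕ) i, p (r i) → p (r (i + (t : ZMod m) * (q : ZMod m))) := by
    intro t
    induction t with
    | zero => intro i h; simpa using h
    | succ t ih => intro i h; rw [Nat.cast_succ, add_one_mul, ← add_assoc]; exact hX _ (ih i h)
  have hper : ∀ x, p (r (-(q : ZMod m)) * x) = p x := by
    intro x
    rcases x with i | i
    · rw [r_mul_r]
      refine propext ⟨fun h => ?_, fun h => ?_⟩
      · have := hX _ h
        rwa [show -(q : ZMod m) + i + q = i by ring] at this
      · have := hX' (l - 1) _ h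
        have e : i + ((l - 1 : ℕ) : ZMod m) * (q : ZMod m) = -(q : ZMod m) + i := by
          rw [nsmul_eq_mul] at hq0
          rw [Nat.cast_sub hl.one_lt.le, Nat.cast_one]
          linear_combination hq0
        rwa [e] at this
    · rw [r_mul_sr, sub_neg_eq_add]
      exact hY i
  refine h1 ((iff_of_eq (const_of_period D hp ?_ hper d)).1 hd)
  rw [one_def]
  intro h
  have := r.inj h
  rw [neg_eq_zero, ZMod.natCast_eq_zero_iff] at this
  have hm := NeZero.ne m
  have hq : 0 < q := Nat.pos_of_ne_zero fun h0 => hm (by rw [← hlq, h0, mul_zero])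
  have h2 := Nat.le_of_dvd hq this
  have h3 := hl.two_le
  nlinarith

end Periods

end Cfsg.Agent.DihedralB
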