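import Cfsg.Agent.Lib.DihedralBGroup.Setup

/-!
# The group ring of a dihedral group over the group ring of its cyclic subgroup

An element is `iota x + refl * iota y`; formulas for its square and, in odd prime characteristic
`l`, its `l`-th power; periodic functions on `ZMod m`.
-/

set_option autoImplicit false

namespace Cfsg.Agent.DihedralB

open scoped Classical
open DihedralGroup

variable {G Ω : Type*} [Group G] [MulAction G Ω] {m : ℕ} [NeZero m] (D : Reg G Ω m)
variable {R : Type*} [CommRing R]

/-- A function on `ZMod m` as an element of the group ring. -/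
noncomputable def ofFun (f : ZMod m → R) : AddMonoidAlgebra R (ZMod m) :=
  .ofCoeff (Finsupp.equivFunOnFinite.symm f)

@[simp] theorem coeff_ofFun (f : ZMod m → R) (i : ZMod m) : (ofFun f).coeff i = f i := rfl

theorem coeff_mul_eq_sum (a b : AddMonoidAlgebra R (ZMod m)) (k : ZMod m) :
    (a * b).coeff k = ∑ i, a.coeff i * b.coeff (k - i) := by
  rw [AddMonoidAlgebra.coeff_mul_apply_left, Finsupp.sum_fintype _ _ (by simp)]
  simp [neg_add_eq_sub]

/-- Replace every group element by its negative. -/
noncomputable def st : AddMonoidAlgebra R (ZMod m) ≃ₐ[R] AddMonoidAlgebra R (ZMod m) :=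
  AddMonoidAlgebra.domCongr R R (AddEquiv.neg (ZMod m))

@[simp] theorem coeff_st (x : AddMonoidAlgebra R (ZMod m)) (i : ZMod m) :
    (st x).coeff i = x.coeff (-i) := by
  simp [st]

theorem st_st (x : AddMonoidAlgebra R (ZMod m)) : st (st x) = x := by ext i; simp

/-- The rotations inside the group ring of the dihedral group. -/
noncomputable def iota : AddMonoidAlgebra R (ZMod m) →ₐ[R] MonoidAlgebra R (DihedralGroup m) :=
  AddMonoidAlgebra.lift R (MonoidAlgebra R (DihedralGroup m)) (ZMod m)
    { toFun := fun a => MonoidAlgebra.single (r a.toAdd) 1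
      map_one' := by simp [MonoidAlgebra.one_def]
      map_mul' := fun a b => by simp [MonoidAlgebra.single_mul_single] }

theorem iota_single (i : ZMod m) (c : R) :
    iota (AddMonoidAlgebra.single i c) = MonoidAlgebra.single (r i) c := by
  simp only [iota, AddMonoidAlgebra.lift_single]
  show c • MonoidAlgebra.single (r i) (1 : R) = _
  rw [MonoidAlgebra.smul_single', mul_one]

theorem coeff_iota_r (x : AddMonoidAlgebra R (ZMod m)) (k : ZMod m) :
    (iota x).coeff (r k) = x.coeff k := by
  induction x using AddMonoidAlgebra.induction_linear with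
  | zero => simp
  | add f g hf hg => simp [hf, hg]
  | single a c => simp [iota_single, Finsupp.single_apply]

theorem coeff_iota_sr (x : AddMonoidAlgebra R (ZMod m)) (k : ZMod m) :
    (iota x).coeff (sr k) = 0 := by
  induction x using AddMonoidAlgebra.induction_linear with
  | zero => simp
  | add f g hf hg => simp [hf, hg]
  | single a c => simp [iota_single, Finsupp.single_apply]

/-- The reflection `sr 0`. -/
noncomputable def refl : MonoidAlgebra R (DihedralGroup m) := MonoidAlgebra.single (sr 0) 1

theorem refl_mul_refl : (refl : MonoidAlgebra R (DihedralGroup m)) * refl = 1 := by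
  simp [refl, MonoidAlgebra.single_mul_single, MonoidAlgebra.one_def]

theorem iota_mul_refl (x : AddMonoidAlgebra R (ZMod m)) :
    iota x * refl = (refl : MonoidAlgebra R (DihedralGroup m)) * iota (st x) := by
  induction x using AddMonoidAlgebra.induction_linear with
  | zero => simp
  | add f g hf hg => simp [add_mul, mul_add, hf, hg]
  | single a c => simp [st, iota_single, refl, MonoidAlgebra.single_mul_single]

theorem coeff_refl_mul_r (x : AddMonoidAlgebra R (ZMod m)) (k : ZMod m) :
    ((refl : MonoidAlgebra R (DihedralGroup m)) * iota x).coeff (r k) = 0 := by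
  simp [refl, coeff_iota_sr]

theorem coeff_refl_mul_sr (x : AddMonoidAlgebra R (ZMod m)) (k : ZMod m) :
    ((refl : MonoidAlgebra R (DihedralGroup m)) * iota x).coeff (sr k) = x.coeff k := by
  simp [refl, coeff_iota_r]

/-- An element with given rotation and reflection parts. -/
noncomputable def mk (x y : AddMonoidAlgebra R (ZMod m)) : MonoidAlgebra R (DihedralGroup m) :=
  iota x + refl * iota y

@[simp] theorem coeff_mk_r (x y : AddMonoidAlgebra R (ZMod m)) (k : ZMod m) :
    (mk x y).coeff (r k) = x.coeff k := by
  simp [mk, coeff_iota_r, coeff_refl_mul_r]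

@[simp] theorem coeff_mk_sr (x y : AddMonoidAlgebra R (ZMod m)) (k : ZMod m) :
    (mk x y).coeff (sr k) = y.coeff k := by
  simp [mk, coeff_iota_sr, coeff_refl_mul_sr]

/-- A function on the dihedral group as an element of the group ring. -/
noncomputable def el (f : DihedralGroup m → R) : MonoidAlgebra R (DihedralGroup m) :=
  mk (ofFun fun i => f (r i)) (ofFun fun i => f (sr i))

@[simp] theorem coeff_el (f : DihedralGroup m → R) (d : DihedralGroup m) :
    (el f).coeff d = f d := by
  rcases d with i | i <;> simp [el]

theorem refl_iota_sq (y : AddMonoidAlgebra R (ZMod m)) :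
    ((refl : MonoidAlgebra R (DihedralGroup m)) * iota y) * (refl * iota y) = iota (st y * y) := by
  rw [mul_assoc, ← mul_assoc (iota y), iota_mul_refl, ← mul_assoc, ← mul_assoc, refl_mul_refl,
    one_mul, map_mul]

theorem commute_refl {x : AddMonoidAlgebra R (ZMod m)} (hx : st x = x)
    (y : AddMonoidAlgebra R (ZMod m)) :
    Commute (iota x) ((refl : MonoidAlgebra R (DihedralGroup m)) * iota y) := by
  rw [Commute, SemiconjBy, ← mul_assoc, iota_mul_refl, hx, mul_assoc, mul_assoc, ← map_mul,
    ← map_mul, mul_comm x y]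

theorem mk_sq {x : AddMonoidAlgebra R (ZMod m)} (hx : st x = x) (y : AddMonoidAlgebra R (ZMod m)) :
    mk x y * mk x y = mk (x * x + st y * y) (2 * (x * y)) := by
  rw [mk, add_mul, mul_add, mul_add, refl_iota_sq, (commute_refl hx y).eq]
  simp only [mk, map_add, map_mul, two_mul, mul_add]
  rw [mul_assoc refl, ← map_mul iota y x, mul_comm y x, map_mul]
  abel

theorem mk_pow_char (l : ℕ) [Fact l.Prime] [CharP R l] (hodd : Odd l)
    {x : AddMonoidAlgebra R (ZMod m)} (hx : st x = x) (y : AddMonoidAlgebra R (ZMod m)) :
    mk x y ^ l = mk (x ^ l) (y * (st y * y) ^ (l / 2)) := by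
  have : CharP (MonoidAlgebra R (DihedralGroup m)) l :=
    charP_of_injective_algebraMap (R := R) (fun a b h => by
      have := congrArg (fun z => MonoidAlgebra.coeff z 1) h
      simpa [MonoidAlgebra.algebraMap_def] using this) l
  rw [mk, add_pow_char_of_commute l (commute_refl hx y), mk, map_pow]
  congr 1
  obtain ⟨j, rfl⟩ := hodd
  rw [show (2 * j + 1) / 2 = j by omega, pow_succ', pow_mul, pow_two, refl_iota_sq, ← map_pow,
    mul_assoc, ← map_mul]

theorem pow_char_coeff (l : ℕ) [Fact l.Prime] (x : AddMonoidAlgebra (ZMod l) (ZMod m))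
    (k : ZMod m) : (x ^ l).coeff k = ∑ i, if l • i = k then x.coeff i else 0 := by
  have : CharP (AddMonoidAlgebra (ZMod l) (ZMod m)) l :=
    charP_of_injective_algebraMap (R := ZMod l) (fun a b h => by
      have := congrArg (fun z => AddMonoidAlgebra.coeff z 0) h
      simpa [AddMonoidAlgebra.coe_algebraMap] using this) l
  have hx : x = ∑ i, AddMonoidAlgebra.single i (x.coeff i) := by
    ext j
    simp [Finsupp.single_apply]
  conv_lhs => rw [hx, sum_pow_char]
  simp [AddMonoidAlgebra.single_pow, ZMod.pow_card, Finsupp.single_apply]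

section Periodic

/-- `f` has period `w`. -/
def Per {α : Type*} (w : ZMod m) (f : ZMod m → α) : Prop := ∀ i, f (i + w) = f i

theorem Per.mul {w : ZMod m} {a : AddMonoidAlgebra R (ZMod m)}
    (b : AddMonoidAlgebra R (ZMod m)) (ha : Per w a.coeff) : Per w (a * b).coeff := by
  intro k
  rw [coeff_mul_eq_sum, coeff_mul_eq_sum]
  refine Fintype.sum_equiv (Equiv.subRight w) _ _ fun i => ?_
  show a.coeff i * b.coeff (k + w - i) = a.coeff (i - w) * b.coeff (k - (i - w))
  rw [← ha (i - w), sub_add_cancel, show k + w - i = k - (i - w) by ring]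

theorem Per.st {w : ZMod m} {a : AddMonoidAlgebra R (ZMod m)} (ha : Per w a.coeff) :
    Per w (DihedralB.st a).coeff := by
  intro k
  rw [coeff_st, coeff_st, ← ha (-(k + w))]
  congr 1; ring

/-- A sum of a periodic function is a multiple of the period. -/
theorem Per.sum_eq_zero (l : ℕ) [CharP R l] {q : ℕ} (hlq : l * q = m) {f : ZMod m → R}
    (hf : Per (q : ZMod m) f) : ∑ i, f i = 0 := by
  have hm := NeZero.ne m
  have hq : q ≠ 0 := by rintro rfl; simp at hlq; exact hm hlq.symm
  have h1 : ∀ t j : ℕ, f ((t * q + j : ℕ) : ZMod m) = f (j : ZMod m) := by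
    intro t j
    induction t with
    | zero => simp
    | succ t ih =>
      rw [show ((t + 1) * q + j : ℕ) = (t * q + j) + q by ring, Nat.cast_add, hf, ih]
  have h2 : ∑ i, f i = ∑ n ∈ Finset.range m, f (n : ZMod m) := by
    refine Finset.sum_bij (fun i _ => i.val) (fun i _ => Finset.mem_range.2 (ZMod.val_lt i))
      (fun a _ b _ h => ZMod.val_injective m h) (fun n hn => ?_) (fun i _ => by simp)
    exact ⟨(n : ZMod m), Finset.mem_univ _, ZMod.val_natCast_of_lt (Finset.mem_range.1 hn)⟩
  rw [h2]
  have h3 : ∀ a : ℕ, ∑ n ∈ Finset.range (a * q), f (n : ZMod m) =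
      (a : R) * ∑ j ∈ Finset.range q, f (j : ZMod m) := by
    intro a
    induction a with
    | zero => simp
    | succ a ih =>
      rw [add_one_mul, Finset.sum_range_add, ih]
      simp only [h1]
      push_cast
      ring
  rw [show Finset.range m = Finset.range (l * q) by rw [hlq], h3, CharP.cast_eq_zero, zero_mul]

theorem Per.mul_eq_zero (l : ℕ) [CharP R l] {q : ℕ} (hlq : l * q = m)
    {a b : AddMonoidAlgebra R (ZMod m)} (ha : Per (q : ZMod m) a.coeff)
    (hb : Per (q : ZMod m) b.coeff) : a * b = 0 := by
  ext k
  rw [coeff_mul_eq_sum]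
  exact Per.sum_eq_zero l hlq fun i => by
    rw [ha i, ← hb (k - (i + q))]
    congr 2; ring

end Periodic

section InvEl

variable {R : Type*} [CommRing R]

/-- An element whose coefficient function is invariant. -/
def InvEl (z : MonoidAlgebra R (DihedralGroup m)) : Prop := Inv D (fun d => z.coeff d)

theorem invEl_el {f : DihedralGroup m → R} (hf : Inv D f) : InvEl D (el f) := by
  intro g hg d
  simp only [coeff_el]
  exact hf g hg d

theorem invEl_one : InvEl D (1 : MonoidAlgebra R (DihedralGroup m)) := by
  intro g hg d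
  have := inv_ite D (1 : R) 0 g hg d
  simpa [MonoidAlgebra.one_def, Finsupp.single_apply, eq_comm] using this

theorem InvEl.mul {a b : MonoidAlgebra R (DihedralGroup m)} (ha : InvEl D a) (hb : InvEl D b) :
    InvEl D (a * b) := by
  intro g hg d
  simp only [MonoidAlgebra.coeff_mul_apply_left]
  rw [Finsupp.sum_fintype _ _ (by simp), Finsupp.sum_fintype _ _ (by simp)]
  exact (ha.conv D hb) g hg d

theorem InvEl.pow {a : MonoidAlgebra R (DihedralGroup m)} (ha : InvEl D a) (n : ℕ) :
    InvEl D (a ^ n) := by
  induction n with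
  | zero => simpa using invEl_one D
  | succ n ih => rw [pow_succ]; exact ih.mul D ha

end InvEl

end Cfsg.Agent.DihedralB
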