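import Cfsg.Agent.Lib.DihedralBGroup.DesignTwo

/-!
# A primitive group with a regular dihedral subgroup is doubly transitive

`cls_of_ne_one`: all non-identity elements form one suborbit.  `two_pretransitive`: the consequence.
-/

set_option autoImplicit false

namespace Cfsg.Agent.DihedralB

open scoped Classical
open DihedralGroup MulAction

variable {G Ω : Type*} [Group G] [MulAction G Ω] {m : ℕ} (D : Reg G Ω m)

theorem cls_eq_of_cls {d x : DihedralGroup m} (h : cls D d x) : cls D x = cls D d := by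
  funext y
  refine propext ⟨fun h' => ?_, fun h' => ?_⟩
  · exact (iff_of_eq ((inv_cls D d).eq_of_cls D h')).2 h
  · exact (iff_of_eq ((inv_cls D x).eq_of_cls D h')).2 (cls_symm D h)

variable [NeZero m]

omit [NeZero m] in
theorem r_ne_one {i : ZMod m} (hi : i ≠ 0) : (r i : DihedralGroup m) ≠ 1 := by
  rw [one_def]; exact fun h => hi (r.inj h)

theorem mul_mem_addSubgroup (K : AddSubgroup (ZMod m)) (a : ZMod m) {i : ZMod m} (hi : i ∈ K) :
    a * i ∈ K := by
  have := K.nsmul_mem hi a.val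
  rwa [nsmul_eq_mul, ZMod.natCast_zmod_val] at this

/-- Multipliers are transitive on the non-zero elements killed by a prime. -/
theorem exists_unit_mul {l q : ℕ} (hl : l.Prime) (hlq : l * q = m) {a b : ZMod m} (ha : a ≠ 0)
    (ha' : l • a = 0) (hb : b ≠ 0) (hb' : l • b = 0) : ∃ u : (ZMod m)ˣ, (u : ZMod m) * a = b := by
  obtain ⟨s, hs, rfl⟩ := (nsmul_eq_zero_iff' hlq a).1 ha'
  obtain ⟨t, ht, rfl⟩ := (nsmul_eq_zero_iff' hlq b).1 hb'
  haveI := Fact.mk hl
  have hne : ∀ n : ℕ, n < l → ((n : ZMod m) * (q : ZMod m)) ≠ 0 → (n : ZMod l) ≠ 0 := by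
    intro n hn h0 h
    rw [ZMod.natCast_eq_zero_iff] at h
    rcases Nat.eq_zero_or_pos n with rfl | hp
    · simp at h0
    · have := Nat.le_of_dvd hp h; omega
  obtain ⟨u, hu⟩ := ZMod.unitsMap_surjective (n := l) (m := m) (Dvd.intro q hlq)
    (Units.mk0 ((t : ZMod l) / (s : ZMod l)) (div_ne_zero (hne t ht hb) (hne s hs ha)))
  refine ⟨u, ?_⟩
  have hu' : ((u : ZMod m).val : ZMod l) = (t : ZMod l) / (s : ZMod l) := by
    have := congrArg Units.val hu
    simpa [ZMod.unitsMap_def, ZMod.castHom_apply, ← ZMod.natCast_val] using this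
  rw [← ZMod.natCast_zmod_val (u : ZMod m), ← mul_assoc, ← Nat.cast_mul, ← Nat.cast_mul,
    ← Nat.cast_mul, ZMod.natCast_eq_natCast_iff']
  have h : (((u : ZMod m).val * s : ℕ) : ZMod l) = (t : ZMod l) := by
    rw [Nat.cast_mul, hu', div_mul_cancel₀ _ (hne s hs ha)]
  rw [ZMod.natCast_eq_natCast_iff'] at h
  have e1 := Nat.mul_mod_mul_right q ((u : ZMod m).val * s) l
  have e2 := Nat.mul_mod_mul_right q t l
  rw [hlq] at e1 e2
  rw [e1, e2, h]

/-- The subgroup generated by the rotations in a suborbit. -/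
def kcl (d : DihedralGroup m) : AddSubgroup (ZMod m) :=
  AddSubgroup.closure {i | cls D d (r i)}

omit [NeZero m] in
theorem mem_kcl {d : DihedralGroup m} {i : ZMod m} (h : cls D d (r i)) : i ∈ kcl D d :=
  AddSubgroup.subset_closure h

theorem not_all_mem {K L : AddSubgroup (ZMod m)}
    (hmin : ∀ d : DihedralGroup m, d ≠ 1 → Nat.card K ≤ Nat.card (kcl D d)) (hLK : L < K)
    {d : DihedralGroup m} (hd : d ≠ 1) : ∃ i, cls D d (r i) ∧ i ∉ L := by
  by_contra hcon
  push Not at hcon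
  have h1 : kcl D d ≤ L := (AddSubgroup.closure_le _).2 hcon
  have h2 : Nat.card L < Nat.card K := Set.Finite.card_lt_card (Set.toFinite _) hLK
  have h3 := Nat.card_mono (Set.toFinite (L : Set (ZMod m))) h1
  have h4 := hmin d hd
  simp only [SetLike.coe_sort_coe] at h3
  omega

theorem exists_killed_mem {l : ℕ} (hl : l.Prime) {K : AddSubgroup (ZMod m)}
    (h : l ∣ Nat.card K) : ∃ a ∈ K, a ≠ 0 ∧ l • a = 0 := by
  haveI := Fact.mk hl
  obtain ⟨a, ha⟩ := exists_prime_addOrderOf_dvd_card' (G := K) l h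
  refine ⟨a, a.2, fun h0 => ?_, ?_⟩
  · have : a = 0 := Subtype.ext h0
    rw [this, addOrderOf_zero] at ha
    exact hl.one_lt.ne ha
  · have := addOrderOf_nsmul_eq_zero a
    rw [ha] at this
    simpa using congrArg Subtype.val this

variable [IsPreprimitive G Ω]

/-- Suborbits forming one orbit of the multipliers form one suborbit. -/
theorem cls_of_orbit (hm : 2 ≤ m) {i0 : ZMod m} (hi0 : i0 ≠ 0)
    (h : ∀ d, d ≠ 1 → ∃ u : (ZMod m)ˣ, cls D (r (u * i0)) d) :
    ∀ d, d ≠ 1 → cls D (r i0) d := by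
  set S := (Finset.univ.filter fun d : DihedralGroup m => d ≠ 1).image (cls D) with hS
  set b := (Finset.univ.filter (cls D (r i0))).card with hb
  set a := (Finset.univ.filter fun i => cls D (r i0) (r i)).card with ha
  have hc : ∀ c ∈ S, ∃ u : (ZMod m)ˣ, c = cls D (r (u * i0)) := by
    intro c hc
    obtain ⟨d, hd, rfl⟩ := Finset.mem_image.1 hc
    obtain ⟨u, hu⟩ := h d (Finset.mem_filter.1 hd).2
    exact ⟨u, cls_eq_of_cls D hu⟩
  have hfib : ∀ {x y : DihedralGroup m}, cls D x = cls D y ↔ cls D y x := fun {x y} =>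
    ⟨fun e => e ▸ cls_self D x, cls_eq_of_cls D⟩
  have h1 : (Finset.univ.filter fun d : DihedralGroup m => d ≠ 1).card = S.card * b := by
    rw [Finset.card_eq_sum_card_image (cls D), ← hS]
    refine Finset.sum_const_nat fun c hcS => ?_
    obtain ⟨u, rfl⟩ := hc c hcS
    have hu0 : (r (u * i0) : DihedralGroup m) ≠ 1 := r_ne_one (by simpa using hi0)
    rw [hb, ← cls_card_unit D hm u hi0, Finset.filter_filter]
    refine congrArg Finset.card (Finset.filter_congr fun d _ => ?_)
    exact ⟨fun h' => hfib.1 h'.2, fun h' => ⟨cls_ne_one D hu0 h', hfib.2 h'⟩⟩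
  have h2 : (Finset.univ.filter fun i : ZMod m => i ≠ 0).card = S.card * a := by
    have himg : (Finset.univ.filter fun i : ZMod m => i ≠ 0).image (fun i => cls D (r i)) = S := by
      ext c
      simp only [hS, Finset.mem_image, Finset.mem_filter, Finset.mem_univ, true_and]
      constructor
      · rintro ⟨i, hi, rfl⟩; exact ⟨r i, r_ne_one hi, rfl⟩
      · rintro ⟨d, hd, rfl⟩
        obtain ⟨i, hi⟩ := exists_r_cls D hm hd
        exact ⟨i, fun h0 => cls_ne_one D hd hi (by rw [h0]; rfl), cls_eq_of_cls D hi⟩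
    rw [Finset.card_eq_sum_card_image (fun i => cls D (r i)), himg]
    refine Finset.sum_const_nat fun c hcS => ?_
    obtain ⟨u, rfl⟩ := hc c hcS
    have hu0 : (r (u * i0) : DihedralGroup m) ≠ 1 := r_ne_one (by simpa using hi0)
    rw [ha, Finset.filter_filter]
    refine Finset.card_bij' (fun i _ => (↑u⁻¹ : ZMod m) * i) (fun i _ => (u : ZMod m) * i) ?_ ?_
      (fun i _ => by simp [← mul_assoc]) (fun i _ => by simp [← mul_assoc])
    · intro i hi
      simp only [Finset.mem_filter, Finset.mem_univ, true_and] at hi ⊢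
      have := hfib.1 hi.2
      rw [← cls_unit_iff D u⁻¹] at this
      simpa [← mul_assoc] using this
    · intro i hi
      simp only [Finset.mem_filter, Finset.mem_univ, true_and] at hi ⊢
      exact ⟨fun h0 => cls_ne_one D hu0 (cls_unit D u hi) (by rw [h0]; rfl),
        hfib.2 (cls_unit D u hi)⟩
  rw [Finset.filter_ne', Finset.card_erase_of_mem (Finset.mem_univ _), Finset.card_univ,
    ← Nat.card_eq_fintype_card, DihedralGroup.nat_card] at h1
  rw [Finset.filter_ne', Finset.card_erase_of_mem (Finset.mem_univ _), Finset.card_univ,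
    ZMod.card] at h2
  have hd1 : S.card ∣ 2 * m - 1 := ⟨b, h1⟩
  have hd2 : S.card ∣ m - 1 := ⟨a, h2⟩
  have hd3 := Nat.dvd_sub hd1 (hd2.mul_left 2)
  rw [show 2 * m - 1 - 2 * (m - 1) = 1 by omega, Nat.dvd_one] at hd3
  intro d hd
  have key := Finset.card_le_one.1 hd3.le (cls D d) (by simp [hS]; exact ⟨d, hd, rfl⟩)
    (cls D (r i0)) (by simp [hS]; exact ⟨r i0, r_ne_one hi0, rfl⟩)
  exact hfib.1 key

/-- Case of an odd prime divisor. -/
theorem cls_of_odd (hm : 2 ≤ m) {i0 : ZMod m} (hi0 : i0 ≠ 0)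
    (hmin : ∀ d : DihedralGroup m, d ≠ 1 → Nat.card (kcl D (r i0)) ≤ Nat.card (kcl D d))
    {l : ℕ} (hl : l.Prime) (hl2 : l ≠ 2) (hdvd : l ∣ Nat.card (kcl D (r i0))) :
    ∀ d, d ≠ 1 → cls D (r i0) d := by
  set K := kcl D (r i0) with hK
  obtain ⟨q, hlq⟩ : ∃ q, l * q = m := by
    obtain ⟨q, hq⟩ := hdvd.trans (AddSubgroup.card_addSubgroup_dvd_card K)
    exact ⟨q, by rw [← hq, Nat.card_zmod]⟩
  haveI := Fact.mk hl
  set L := K.map (nsmulAddMonoidHom l) with hL
  have hLK : L < K := by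
    refine lt_of_le_of_ne ?_ fun he => ?_
    · rintro _ ⟨a, ha, rfl⟩
      exact K.nsmul_mem ha l
    · obtain ⟨a, ha, ha0, hla⟩ := exists_killed_mem hl hdvd
      have hsurj : Function.Surjective (fun x : K => (⟨l • x.1, K.nsmul_mem x.2 l⟩ : K)) := by
        rintro ⟨y, hy⟩
        rw [← he] at hy
        obtain ⟨x, hx, rfl⟩ := hy
        exact ⟨⟨x, hx⟩, rfl⟩
      have heq : (fun x : K => (⟨l • x.1, K.nsmul_mem x.2 l⟩ : K)) ⟨a, ha⟩ =
          (fun x : K => (⟨l • x.1, K.nsmul_mem x.2 l⟩ : K)) 0 := Subtype.ext (by simp [hla])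
      exact ha0 (congrArg Subtype.val (Finite.injective_iff_surjective.2 hsurj heq))
  -- fibres
  have hodd : Odd l := hl.odd_of_ne_two hl2
  have hI := inv_ind D (ZMod l) (inv_cls D (r i0))
  have hzero : ∀ k : ZMod m, k ≠ 0 →
      (∑ i, if l • i = k then (if cls D (r i0) (r i) then (1 : ZMod l) else 0) else 0) = 0 := by
    intro k hk
    obtain ⟨i', hi', hi'L⟩ := not_all_mem D hmin hLK (r_ne_one hk)
    have hco : ∀ j, (el (ind (ZMod l) (cls D (r i0))) ^ l).coeff (r j) =
        ∑ i, if l • i = j then (if cls D (r i0) (r i) then (1 : ZMod l) else 0) else 0 := by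
      intro j
      rw [el, mk_pow_char l hodd (st_rot D hI), coeff_mk_r, pow_char_coeff]
      simp [ind]
    rw [← hco, ← ((invEl_el D hI).pow D l).eq_of_cls D hi']
    show (el (ind (ZMod l) (cls D (r i0))) ^ l).coeff (r i') = 0
    rw [hco]
    refine Finset.sum_eq_zero fun i _ => ?_
    split_ifs with h1 h2 <;> try rfl
    exact absurd (h1 ▸ ⟨i, mem_kcl D h2, rfl⟩ : i' ∈ L) hi'L
  have hshift : ∀ a z : ZMod m, cls D (r i0) (r a) → l • a ≠ 0 → l • z = 0 →
      cls D (r i0) (r (a + z)) := by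
    intro a z ha hla hz
    obtain ⟨t, -, rfl⟩ := (nsmul_eq_zero_iff' hlq z).1 hz
    clear hz
    induction t generalizing a with
    | zero => simpa using ha
    | succ t ih =>
      have hq : l • (q : ZMod m) = 0 := by
        rw [nsmul_eq_mul, ← Nat.cast_mul, hlq, ZMod.natCast_self]
      have := ih (a + (q : ZMod m))
        (add_mem_of_fibre hlq (X := fun i => cls D (r i0) (r i)) hzero hla ha)
        (by rwa [nsmul_add, hq, add_zero])
      rw [show a + ((t + 1 : ℕ) : ZMod m) * (q : ZMod m) = a + (q : ZMod m) + (t : ZMod m) * (q : ZMod m)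
        by push_cast; ring]
      exact this
  -- the orbit of the suborbit under the multipliers
  set p : DihedralGroup m → Prop := fun d => ∃ u : (ZMod m)ˣ, cls D (r (u * i0)) d with hpdef
  have hp : Inv D p := fun g hg d => by
    simp only [p, inv_cls D _ g hg]
  have hp1 : ¬ p 1 := fun ⟨u, hu⟩ => cls_ne_one D (r_ne_one (by simpa using hi0)) hu rfl
  have hstab : ∀ (u : (ZMod m)ˣ) (i : ZMod m), p (r (u * i)) ↔ p (r i) := by
    intro u i
    constructor
    · rintro ⟨v, hv⟩
      refine ⟨u⁻¹ * v, ?_⟩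
      have := cls_unit D u⁻¹ hv
      simpa [← mul_assoc] using this
    · rintro ⟨v, hv⟩
      exact ⟨u * v, by simpa [mul_assoc] using cls_unit D u hv⟩
  have hpshift : ∀ a z : ZMod m, p (r a) → l • a ≠ 0 → l • z = 0 → p (r (a + z)) := by
    rintro a z ⟨u, hu⟩ hla hz
    refine ⟨u, ?_⟩
    have h1 := cls_unit D u⁻¹ hu
    rw [← mul_assoc, ← Units.val_mul, inv_mul_cancel, Units.val_one, one_mul] at h1
    have h2 := hshift _ ((↑u⁻¹ : ZMod m) * z) h1
      (by rw [← mul_smul_comm]; simpa using hla)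
      (by rw [← mul_smul_comm, hz, mul_zero])
    have h3 := cls_unit D u h2
    simpa [mul_add, ← mul_assoc] using h3
  have hq0 : l • (q : ZMod m) = 0 := by rw [nsmul_eq_mul, ← Nat.cast_mul, hlq, ZMod.natCast_self]
  have hadd : ∀ i : ZMod m, l • (i + (q : ZMod m)) = l • i := fun i => by
    rw [nsmul_add, hq0, add_zero]
  by_cases hA : ∃ j, l • j = 0 ∧ cls D (r i0) (r j)
  · obtain ⟨j0, hj0, hj0c⟩ := hA
    have hj00 : j0 ≠ 0 := fun h0 => cls_ne_one D (r_ne_one hi0) hj0c (by rw [h0]; rfl)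
    have hkilled : ∀ w : ZMod m, w ≠ 0 → l • w = 0 → p (r w) := by
      intro w hw hlw
      obtain ⟨u, rfl⟩ := exists_unit_mul hl hlq hj00 hj0 hw hlw
      exact (hstab u j0).2 ⟨1, by simpa using hj0c⟩
    apply cls_of_orbit D hm hi0
    intro d hd
    by_contra hcon
    refine false_of_odd D hm hl hl2 hlq (p := fun z => z ≠ 1 ∧ ¬ p z) ?_ (fun h => h.1 rfl)
      (d0 := d) ⟨hd, hcon⟩ ?_ ?_
    · have := (inv_ite D False True).comp₂ D hp (fun a b => a ∧ ¬ b)
      refine (funext fun z => propext ?_ : (fun z => (if z = 1 then False else True) ∧ ¬ p z) =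
        fun z => z ≠ 1 ∧ ¬ p z) ▸ this
      by_cases hz : z = 1 <;> simp [hz]
    · intro u i
      have : (r ((u : ZMod m) * i) : DihedralGroup m) ≠ 1 ↔ r i ≠ 1 := by
        simp only [one_def, ne_eq, r.injEq, Units.mul_right_eq_zero]
      simp only [this, hstab u i]
    · intro i
      show (r (i + (q : ZMod m)) ≠ (1 : DihedralGroup m) ∧ _) = (r i ≠ 1 ∧ _)
      by_cases hi : l • i = 0
      · have hf : ∀ w : ZMod m, l • w = 0 → ¬ (r w ≠ (1 : DihedralGroup m) ∧ ¬ p (r w)) :=
          fun w hw h' => h'.2 (hkilled w (fun h0 => h'.1 (by rw [h0]; rfl)) hw)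
        exact propext (iff_of_false (hf _ (by rw [hadd, hi])) (hf i hi))
      · have hne : ∀ w : ZMod m, l • w ≠ 0 → (r w : DihedralGroup m) ≠ 1 := fun w hw =>
          r_ne_one fun h0 => hw (by rw [h0, nsmul_zero])
        refine propext ⟨fun h' => ⟨hne _ hi, fun h'' => h'.2 ?_⟩,
          fun h' => ⟨hne _ (by rwa [hadd]), fun h'' => h'.2 ?_⟩⟩
        · exact hpshift i q h'' hi hq0
        · have := hpshift _ (-(q : ZMod m)) h'' (by rwa [hadd]) (by rw [neg_nsmul, hq0, neg_zero])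
          simpa using this
  · push Not at hA
    exfalso
    have hne : ∀ w : ZMod m, p (r w) → l • w ≠ 0 := by
      rintro w ⟨u, hu⟩ h0
      have h1 := cls_unit D u⁻¹ hu
      rw [← mul_assoc, ← Units.val_mul, inv_mul_cancel, Units.val_one, one_mul] at h1
      exact hA _ (by rw [← mul_smul_comm, h0, mul_zero]) h1
    refine false_of_odd D hm hl hl2 hlq hp hp1 (d0 := r i0) ⟨1, by simp [cls_self]⟩ hstab
      fun i => propext ⟨fun h' => ?_, fun h' => hpshift i q h' (hne _ h') hq0⟩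
    have := hpshift _ (-(q : ZMod m)) h' (hne _ h') (by rw [neg_nsmul, hq0, neg_zero])
    simpa using this

/-- Case of a proper subgroup of two-power order. -/
theorem false_of_two_power (hm : 2 ≤ m) {i0 : ZMod m} (hi0 : i0 ≠ 0) {n : ℕ}
    (hcard : Nat.card (kcl D (r i0)) = 2 ^ n) (htop : kcl D (r i0) ≠ ⊤) : False := by
  set K := kcl D (r i0) with hK
  have hn : n ≠ 0 := by
    rintro rfl
    rw [pow_zero, AddSubgroup.card_eq_one] at hcard
    have := mem_kcl D (cls_self D (r i0))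
    rw [← hK, hcard, AddSubgroup.mem_bot] at this
    exact hi0 this
  have h2 : 2 ∣ Nat.card K := by rw [hcard]; exact dvd_pow_self 2 hn
  obtain ⟨q, hlq⟩ : ∃ q, 2 * q = m := by
    obtain ⟨q, hq⟩ := h2.trans (AddSubgroup.card_addSubgroup_dvd_card K)
    exact ⟨q, by rw [← hq, Nat.card_zmod]⟩
  have hkill : ∀ w : ZMod m, w ≠ 0 → 2 • w = 0 → w = (q : ZMod m) := by
    intro w hw h0
    obtain ⟨t, ht, rfl⟩ := (nsmul_eq_zero_iff' hlq w).1 h0
    interval_cases t
    · simp at hw
    · simp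
  have hqK : (q : ZMod m) ∈ K := by
    obtain ⟨a, ha, ha0, hla⟩ := exists_killed_mem Nat.prime_two h2
    rwa [← hkill a ha0 hla]
  have hqne : (q : ZMod m) ≠ 0 := by
    obtain ⟨a, ha, ha0, hla⟩ := exists_killed_mem Nat.prime_two h2
    rwa [← hkill a ha0 hla]
  have hq0 : 2 • (q : ZMod m) = 0 := by rw [nsmul_eq_mul, ← Nat.cast_mul, hlq, ZMod.natCast_self]
  set U : DihedralGroup m → Prop := fun d => d ≠ 1 ∧ ∀ i, cls D d (r i) → i ∈ K with hUdef
  have hU : Inv D U := by
    intro g hg d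
    have h : cls D (pi D g d) = cls D d := cls_eq_of_cls D ⟨g, hg, rfl⟩
    have h' : pi D g d = 1 ↔ d = 1 := by
      refine ⟨fun he => by rw [← pi_inv_pi D g d, he, pi_one D (inv_smul_eq_iff.2 hg.symm)],
        fun he => by rw [he, pi_one D hg]⟩
    simp only [U, h, ne_eq, h']
  have hstab : ∀ (u : (ZMod m)ˣ) (i : ZMod m), U (r i) → U (r (u * i)) := by
    intro u i hi
    refine ⟨r_ne_one ?_, fun j hj => ?_⟩
    · have : i ≠ 0 := fun h0 => hi.1 (by rw [h0]; rfl)
      simpa using this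
    · have h1 := cls_unit D u⁻¹ hj
      rw [← mul_assoc, ← Units.val_mul, inv_mul_cancel, Units.val_one, one_mul] at h1
      have := mul_mem_addSubgroup K (u : ZMod m) (hi.2 _ h1)
      simpa [← mul_assoc] using this
  have hUK : ∀ i, U (r i) → i ∈ K := fun i hi => hi.2 i (cls_self D _)
  have hshift : ∀ i : ZMod m, U (r i) → 2 • i ≠ 0 → U (r (i + (q : ZMod m))) := by
    intro i hi h2i
    obtain ⟨k, hk, hord⟩ : ∃ k ≤ n, addOrderOf i = 2 ^ k := by
      rw [← Nat.dvd_prime_pow Nat.prime_two, ← hcard]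
      exact AddSubgroup.addOrderOf_dvd_natCard K (hUK i hi)
    have hk2 : 2 ≤ k := by
      by_contra hlt
      apply h2i
      rw [← addOrderOf_dvd_iff_nsmul_eq_zero, hord]
      exact pow_dvd_pow 2 (by omega) |>.trans (by norm_num : 2 ^ 1 ∣ 2)
    obtain ⟨k, rfl⟩ : ∃ k', k = k' + 2 := ⟨k - 2, by omega⟩
    have hdm : 2 ^ (k + 2) ∣ m := by
      rw [← hord]
      exact (addOrderOf_dvd_natCard i).trans (by rw [Nat.card_zmod])
    obtain ⟨u, hu⟩ := ZMod.unitsMap_surjective (n := 2 ^ (k + 2)) (m := m) hdm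
      (ZMod.unitOfCoprime (1 + 2 ^ (k + 1)) (Nat.Coprime.pow_right _ (by
        rw [Nat.coprime_two_right]
        exact Odd.add_even odd_one (Nat.even_pow.2 ⟨even_two, by omega⟩))))
    have hu' : ((u : ZMod m).val : ZMod (2 ^ (k + 2))) = ((1 + 2 ^ (k + 1) : ℕ) : ZMod (2 ^ (k + 2))) := by
      have := congrArg Units.val hu
      simpa [ZMod.unitsMap_def, ZMod.castHom_apply, ← ZMod.natCast_val] using this
    rw [ZMod.natCast_eq_natCast_iff'] at hu'
    have hmul : (u : ZMod m) * i = i + (q : ZMod m) := by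
      rw [← ZMod.natCast_zmod_val (u : ZMod m), ← nsmul_eq_mul, ← mod_addOrderOf_nsmul, hord, hu',
        ← hord, mod_addOrderOf_nsmul, add_nsmul, one_nsmul]
      congr 1
      refine hkill _ (fun h0 => ?_) ?_
      · rw [← addOrderOf_dvd_iff_nsmul_eq_zero, hord, Nat.pow_dvd_pow_iff_le_right] at h0 <;> omega
      · rw [← mul_nsmul, ← pow_succ, show k + 1 + 1 = k + 2 by ring, ← hord,
          addOrderOf_nsmul_eq_zero]
    rw [← hmul]
    exact hstab u i hi
  have hd0U : U (r i0) := ⟨r_ne_one hi0, fun i hi => mem_kcl D hi⟩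
  set W : DihedralGroup m → Prop := fun d => U d ∨ (d = 1 ∧ U (r (q : ZMod m))) with hWdef
  have hW : Inv D W := by
    have := hU.comp₂ D (inv_ite D True False) (fun a b => a ∨ (b ∧ U (r (q : ZMod m))))
    refine (funext fun z => propext ?_ :
      (fun z => U z ∨ ((if z = 1 then True else False) ∧ U (r (q : ZMod m)))) = W) ▸ this
    by_cases hz : z = 1 <;> simp [W, hz]
  have hadd : ∀ i : ZMod m, 2 • (i + (q : ZMod m)) = 2 • i := fun i => by
    rw [nsmul_add, hq0, add_zero]
  have hqq : (q : ZMod m) + (q : ZMod m) = 0 := by rw [← two_nsmul, hq0]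
  refine false_of_two D hm hlq K htop hqK hW (d0 := r i0) (r_ne_one hi0) (Or.inl hd0U) ?_ ?_
  · rintro i (hi | ⟨hi, -⟩)
    · exact hUK i hi
    · rw [one_def] at hi; rw [r.inj hi]; exact K.zero_mem
  · intro i
    refine propext ?_
    show W (r (i + (q : ZMod m))) ↔ W (r i)
    by_cases hi : 2 • i = 0
    · have h0 : W (r (0 : ZMod m)) ↔ U (r (q : ZMod m)) := by
        rw [← one_def]
        exact ⟨fun h => h.elim (fun h' => absurd rfl h'.1) (·.2), fun h => Or.inr ⟨rfl, h⟩⟩
      have hq : W (r (q : ZMod m)) ↔ U (r (q : ZMod m)) :=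
        ⟨fun h => h.elim id (fun h' => absurd h'.1 (r_ne_one hqne)), Or.inl⟩
      rcases eq_or_ne i 0 with rfl | hi'
      · rw [zero_add]; exact hq.trans h0.symm
      · rw [hkill i hi' hi, hqq]; exact h0.trans hq.symm
    · have hne : ∀ w : ZMod m, 2 • w ≠ 0 → (W (r w) ↔ U (r w)) := fun w hw =>
        ⟨fun h => h.elim id (fun h' => absurd h'.1 (r_ne_one fun h0 => hw (by simp [h0]))), Or.inl⟩
      rw [hne i hi, hne _ (by rwa [hadd])]
      refine ⟨fun h => ?_, fun h => hshift i h hi⟩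
      have := hshift _ h (by rwa [hadd])
      rwa [add_assoc, hqq, add_zero] at this

/-- Case of a cyclic subgroup of two-power order with all suborbits generating it. -/
theorem exists_cls_of_top (hm : 2 ≤ m) {n : ℕ} (hmn : m = 2 ^ n)
    (hall : ∀ d : DihedralGroup m, d ≠ 1 → kcl D d = ⊤) :
    ∃ c, ∀ d, d ≠ 1 → cls D c d := by
  obtain ⟨q, hlq⟩ : ∃ q, 2 * q = m := by
    obtain ⟨k, rfl⟩ : ∃ k, n = k + 1 := ⟨n - 1, by rcases n with _ | n <;> simp_all⟩
    exact ⟨2 ^ k, by rw [hmn, pow_succ']⟩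
  have hqne : (q : ZMod m) ≠ 0 := by
    rw [Ne, ZMod.natCast_eq_zero_iff]
    exact fun h => by have := Nat.le_of_dvd (by omega) h; omega
  have hq0 : 2 • (q : ZMod m) = 0 := by rw [nsmul_eq_mul, ← Nat.cast_mul, hlq, ZMod.natCast_self]
  have hunit : ∀ d : DihedralGroup m, d ≠ 1 → ∃ u : (ZMod m)ˣ, cls D d (r u) := by
    intro d hd
    by_contra hcon
    push Not at hcon
    set L : AddSubgroup (ZMod m) := (nsmulAddMonoidHom (α := ZMod m) 2).range with hL
    have hle : kcl D d ≤ L := (AddSubgroup.closure_le _).2 fun i hi => by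
      have hnu : ¬ IsUnit i := fun hu => hcon hu.unit hi
      have h2 : 2 ∣ i.val := by
        by_contra h2
        exact hnu (by
          have hcop : Nat.Coprime i.val m := by
            have := Nat.Coprime.pow_right n (Nat.coprime_two_right.2
              (Nat.odd_iff.2 (show i.val % 2 = 1 by omega)))
            rwa [← hmn] at this
          rw [← ZMod.natCast_zmod_val i]
          exact (ZMod.isUnit_iff_coprime i.val m).2 hcop)
      obtain ⟨t, ht⟩ := h2
      refine ⟨(t : ZMod m), ?_⟩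
      show 2 • (t : ZMod m) = i
      rw [nsmul_eq_mul, ← Nat.cast_mul, ← ht, ZMod.natCast_zmod_val]
    rw [hall d hd, top_le_iff, hL, AddMonoidHom.range_eq_top] at hle
    exact hqne ((Finite.injective_iff_surjective.2 hle) (by simpa using hq0))
  refine ⟨r (q : ZMod m), fun d hd => ?_⟩
  obtain ⟨u, hu⟩ := hunit d hd
  obtain ⟨u0, hu0⟩ := hunit _ (r_ne_one hqne)
  have hfix : ((u * u0⁻¹ : (ZMod m)ˣ) : ZMod m) * (q : ZMod m) = (q : ZMod m) := by
    obtain ⟨t, ht, he⟩ := (nsmul_eq_zero_iff' hlq (((u * u0⁻¹ : (ZMod m)ˣ) : ZMod m) * (q : ZMod m))).1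
      (by rw [← mul_smul_comm, hq0, mul_zero])
    interval_cases t
    · rw [Nat.cast_zero, zero_mul, Units.mul_right_eq_zero] at he; exact absurd he hqne
    · simpa using he
  have h1 := cls_unit D (u * u0⁻¹) hu0
  rw [hfix, ← Units.val_mul, inv_mul_cancel_right] at h1
  rw [← cls_eq_of_cls D h1]
  exact cls_symm D ((iff_of_eq (congrFun (cls_eq_of_cls D hu) d)).2 (cls_self D d) |> cls_symm D)

/-- All non-identity elements form one suborbit. -/
theorem cls_of_ne_one : ∃ c, ∀ d : DihedralGroup m, d ≠ 1 → cls D c d := by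
  have hm0 := NeZero.ne m
  rcases Nat.lt_or_ge m 2 with hlt | hm
  · obtain rfl : m = 1 := by omega
    refine ⟨sr 0, fun d hd => ?_⟩
    rcases d with i | i
    · exact absurd (by rw [Subsingleton.elim i 0]; rfl) hd
    · rw [Subsingleton.elim i 0]; exact cls_self D _
  haveI : Fact (1 < m) := ⟨hm⟩
  obtain ⟨i0, hi0, hmin0⟩ := Finset.exists_min_image (Finset.univ.filter fun i : ZMod m => i ≠ 0)
    (fun i => Nat.card (kcl D (r i))) ⟨1, by simp⟩
  replace hi0 : i0 ≠ 0 := (Finset.mem_filter.1 hi0).2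
  have hmin : ∀ d : DihedralGroup m, d ≠ 1 → Nat.card (kcl D (r i0)) ≤ Nat.card (kcl D d) := by
    intro d hd
    obtain ⟨i, hi⟩ := exists_r_cls D hm hd
    have : kcl D d = kcl D (r i) := by rw [kcl, kcl, cls_eq_of_cls D hi]
    rw [this]
    exact hmin0 i (Finset.mem_filter.2 ⟨Finset.mem_univ _, fun h0 => cls_ne_one D hd hi (by rw [h0]; rfl)⟩)
  rcases Nat.eq_two_pow_or_exists_odd_prime_and_dvd (Nat.card (kcl D (r i0))) with
    ⟨n, hn⟩ | ⟨l, hl, hdvd, hodd⟩
  · rcases eq_or_ne (kcl D (r i0)) ⊤ with htop | htop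
    · refine exists_cls_of_top D hm (n := n) ?_ fun d hd => ?_
      · rw [← hn, htop, AddSubgroup.card_top, Nat.card_zmod]
      · have := hmin d hd
        rw [htop, AddSubgroup.card_top] at this
        exact AddSubgroup.eq_top_of_le_card _ this
    · exact (false_of_two_power D hm hi0 hn htop).elim
  · exact ⟨r i0, cls_of_odd D hm hi0 hmin hl
      (by rintro rfl; exact absurd hodd (by decide)) hdvd⟩

omit [NeZero m] in
/-- Double transitivity. -/
theorem two_pretransitive [NeZero m] (D : Reg G Ω m) : IsMultiplyPretransitive G Ω 2 := by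
  rw [is_two_pretransitive_iff]
  obtain ⟨c, hc⟩ := cls_of_ne_one D
  have key : ∀ a b : Ω, a ≠ b → ∃ g : G, g • D.e 1 = a ∧ g • D.e c = b := by
    intro a b hab
    obtain ⟨x, rfl⟩ := D.e.surjective a
    obtain ⟨y, rfl⟩ := D.e.surjective b
    have hne : x⁻¹ * y ≠ 1 := fun h => hab (by rw [inv_mul_eq_one] at h; rw [h])
    obtain ⟨g, hg, he⟩ := hc _ hne
    refine ⟨D.hom x * g, by rw [mul_smul, hg, ← e_eq], ?_⟩
    rw [mul_smul, show g • D.e c = D.e (x⁻¹ * y) by rw [← he, pi, Equiv.apply_symm_apply],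
      ← D.e_mul, mul_inv_cancel_left]
  intro a b c' d hab hcd
  obtain ⟨g, hg1, hg2⟩ := key a b hab
  obtain ⟨h, hh1, hh2⟩ := key c' d hcd
  exact ⟨h * g⁻¹, by rw [← hg1, mul_smul, inv_smul_smul, hh1],
    by rw [← hg2, mul_smul, inv_smul_smul, hh2]⟩

end Cfsg.Agent.DihedralB
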