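import Mathlib

/-!
# Functions invariant under a point stabiliser of a group with a regular dihedral subgroup

`Inv D f` : `f` is a function on the dihedral group, identified with the points by `D : Reg G Ω m`,
invariant under the stabiliser of the base point.  Such functions are closed under convolution.
If the group is primitive, they are inverse-symmetric and determined off `1` by either coset of the
cyclic subgroup.
-/

set_option autoImplicit false

namespace Cfsg.Agent.DihedralB

open MulAction
open scoped Classical Pointwise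

/-- A regular dihedral subgroup, as an identification of the points with the dihedral group. -/
structure Reg (G Ω : Type*) [Group G] [MulAction G Ω] (m : ℕ) where
  hom : DihedralGroup m →* G
  e : DihedralGroup m ≃ Ω
  e_mul : ∀ d x, e (d * x) = hom d • e x

variable {G Ω : Type*} [Group G] [MulAction G Ω] {m : ℕ} (D : Reg G Ω m)

/-- The permutation of the dihedral group induced by an element. -/
def pi (g : G) (d : DihedralGroup m) : DihedralGroup m := D.e.symm (g • D.e d)

/-- Invariance under the stabiliser of the base point. -/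
def Inv {α : Type*} (f : DihedralGroup m → α) : Prop :=
  ∀ g : G, g • D.e 1 = D.e 1 → ∀ d, f (pi D g d) = f d

theorem pi_mul (g h : G) (d : DihedralGroup m) : pi D (g * h) d = pi D g (pi D h d) := by
  simp [pi, mul_smul]

theorem pi_one_left (d : DihedralGroup m) : pi D 1 d = d := by simp [pi]

theorem pi_inv_pi (g : G) (d : DihedralGroup m) : pi D g⁻¹ (pi D g d) = d := by
  rw [← pi_mul, inv_mul_cancel, pi_one_left]

theorem pi_pi_inv (g : G) (d : DihedralGroup m) : pi D g (pi D g⁻¹ d) = d := by
  rw [← pi_mul, mul_inv_cancel, pi_one_left]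

theorem pi_one {g : G} (hg : g • D.e 1 = D.e 1) : pi D g 1 = 1 := by simp [pi, hg]

theorem e_eq (d : DihedralGroup m) : D.e d = D.hom d • D.e 1 := by
  simpa using D.e_mul d 1

/-- The relation given by an invariant function is invariant. -/
theorem Inv.kernel {α : Type*} {f : DihedralGroup m → α} (hf : Inv D f) (g : G)
    (b c : DihedralGroup m) : f ((pi D g b)⁻¹ * pi D g c) = f (b⁻¹ * c) := by
  set x := pi D g b with hx
  set g0 := (D.hom x)⁻¹ * g * D.hom b
  have hxe : D.e x = g • D.e b := by simp [hx, pi]
  have h0 : g0 • D.e 1 = D.e 1 := by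
    simp only [g0, mul_smul, ← e_eq, ← hxe]
    rw [e_eq D x, inv_smul_smul]
  rw [← hf g0 h0 (b⁻¹ * c)]
  congr 1
  unfold pi
  apply D.e.injective
  rw [Equiv.apply_symm_apply, D.e_mul, map_inv, Equiv.apply_symm_apply]
  simp only [g0, mul_smul, ← D.e_mul, mul_inv_cancel_left]

theorem Inv.comp {α β : Type*} {f : DihedralGroup m → α} (hf : Inv D f) (F : α → β) :
    Inv D (F ∘ f) := fun g hg d => congrArg F (hf g hg d)

theorem Inv.comp₂ {α β γ : Type*} {f : DihedralGroup m → α} {h : DihedralGroup m → β}
    (hf : Inv D f) (hh : Inv D h) (F : α → β → γ) : Inv D (fun d => F (f d) (h d)) :=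
  fun g hg d => by simp only [hf g hg d, hh g hg d]

theorem inv_const {α : Type*} (a : α) : Inv D (fun _ => a) := fun _ _ _ => rfl

theorem inv_ite {α : Type*} (a b : α) : Inv D (fun d => if d = 1 then a else b) := by
  intro g hg d
  have h : pi D g d = 1 ↔ d = 1 := by
    constructor
    · intro h
      rw [← pi_inv_pi D g d, h]
      exact pi_one D (inv_smul_eq_iff.2 hg.symm)
    · rintro rfl; exact pi_one D hg
  simp [h]

theorem Inv.invFun {α : Type*} {f : DihedralGroup m → α} (hf : Inv D f) :
    Inv D (fun d => f d⁻¹) := by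
  intro g hg d
  have := hf.kernel D g d 1
  simpa [pi_one D hg] using this

/-- The suborbit through a point. -/
def cls (d x : DihedralGroup m) : Prop := ∃ g : G, g • D.e 1 = D.e 1 ∧ pi D g d = x

theorem cls_self (d : DihedralGroup m) : cls D d d := ⟨1, by simp, pi_one_left D d⟩

theorem inv_cls (d : DihedralGroup m) : Inv D (cls D d) := by
  intro g hg x
  apply propext
  constructor
  · rintro ⟨h, hh, he⟩
    exact ⟨g⁻¹ * h, by rw [mul_smul, hh, inv_smul_eq_iff, hg], by rw [pi_mul, he, pi_inv_pi]⟩
  · rintro ⟨h, hh, he⟩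
    exact ⟨g * h, by rw [mul_smul, hh, hg], by rw [pi_mul, he]⟩

theorem Inv.eq_of_cls {α : Type*} {f : DihedralGroup m → α} (hf : Inv D f) {d x : DihedralGroup m}
    (h : cls D d x) : f x = f d := by
  obtain ⟨g, hg, rfl⟩ := h
  exact hf g hg d

theorem cls_symm {d x : DihedralGroup m} (h : cls D d x) : cls D x d := by
  obtain ⟨g, hg, rfl⟩ := h
  exact ⟨g⁻¹, inv_smul_eq_iff.2 hg.symm, pi_inv_pi D g d⟩

theorem cls_ne_one {d x : DihedralGroup m} (hd : d ≠ 1) (h : cls D d x) : x ≠ 1 := by
  have := (inv_ite D (0 : ℕ) 1).eq_of_cls D h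
  intro hx
  simp [hx, hd] at this

/-- Convolution. -/
theorem Inv.conv [NeZero m] {R : Type*} [Semiring R] {f h : DihedralGroup m → R} (hf : Inv D f)
    (hh : Inv D h) : Inv D (fun d => ∑ e, f e * h (e⁻¹ * d)) := by
  intro g hg d
  let P : DihedralGroup m ≃ DihedralGroup m := ⟨pi D g, pi D g⁻¹, pi_inv_pi D g, pi_pi_inv D g⟩
  symm
  refine Fintype.sum_equiv P _ _ fun x => ?_
  show f x * h (x⁻¹ * d) = f (pi D g x) * h ((pi D g x)⁻¹ * pi D g d)
  rw [hf g hg x, hh.kernel D g x d]

section Prim

variable [IsPreprimitive G Ω]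

/-- An invariant function with a non-trivial left period is constant. -/
theorem eq_of_period {α : Type*} {f : DihedralGroup m → α} (hf : Inv D f) {t : DihedralGroup m}
    (ht : t ≠ 1) (hper : ∀ x, f (t * x) = f x) : ∀ d x, f (d * x) = f x := by
  set B : Set Ω := {c | ∀ x, f ((D.e.symm c)⁻¹ * x) = f x} with hB
  have key : ∀ g : G, ∀ c, g • c ∈ B ↔ ∀ x, f ((D.e.symm c)⁻¹ * x) = f ((pi D g⁻¹ 1)⁻¹ * x) := by
    intro g c
    have h1 : ∀ x, f ((D.e.symm (g • c))⁻¹ * pi D g x) = f ((D.e.symm c)⁻¹ * x) := fun x => by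
      have := hf.kernel D g (D.e.symm c) x
      rwa [pi, Equiv.apply_symm_apply] at this
    have h2 : ∀ x, f (pi D g x) = f ((pi D g⁻¹ 1)⁻¹ * x) := fun x => by
      have := hf.kernel D g (pi D g⁻¹ 1) x
      rwa [pi_pi_inv, inv_one, one_mul] at this
    constructor
    · intro h x
      rw [← h1 x, h (pi D g x), h2 x]
    · intro h x
      obtain ⟨x', rfl⟩ : ∃ x', pi D g x' = x := ⟨_, pi_pi_inv D g x⟩
      rw [h1 x', h2 x', h x']
  have hblock : IsBlock G B := by
    refine fun g₁ g₂ hne => Set.disjoint_left.2 fun c hc₁ hc₂ => hne ?_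
    have e : ∀ g : G, c ∈ g • B → ∀ z, (z ∈ g • B ↔
        ∀ x, f ((D.e.symm z)⁻¹ * x) = f ((D.e.symm c)⁻¹ * x)) := by
      intro g hc z
      rw [Set.mem_smul_set_iff_inv_smul_mem, key] at hc ⊢
      exact forall_congr' fun x => by rw [hc x]
    ext z
    rw [e g₁ hc₁, e g₂ hc₂]
  have h1 : D.e 1 ∈ B := fun x => by simp
  have h2 : D.e t ∈ B := fun x => by
    have := hper (t⁻¹ * x)
    rw [mul_inv_cancel_left] at this
    simp [← this]
  rcases IsPreprimitive.isTrivialBlock_of_isBlock hblock with hs | hu
  · exact absurd (D.e.injective (hs h2 h1)) ht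
  · intro d x
    have hd : D.e d⁻¹ ∈ B := by rw [hu]; trivial
    simpa using hd x

theorem const_of_period {α : Type*} {f : DihedralGroup m → α} (hf : Inv D f) {t : DihedralGroup m}
    (ht : t ≠ 1) (hper : ∀ x, f (t * x) = f x) (d : DihedralGroup m) : f d = f 1 := by
  simpa using eq_of_period D hf ht hper d 1

/-- Every non-trivial suborbit contains a reflection. -/
theorem exists_sr_cls {d : DihedralGroup m} (hd : d ≠ 1) : ∃ k, cls D d (DihedralGroup.sr k) := by
  by_contra hcon
  push Not at hcon
  set U := Subgroup.closure {x | cls D d x}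
  have key : ∀ (g : G) (x : DihedralGroup m), x ∈ U → ∀ y,
      (pi D g y)⁻¹ * pi D g (y * x) ∈ U := by
    intro g x hx
    induction hx using Subgroup.closure_induction with
    | mem a ha =>
      intro y
      refine Subgroup.subset_closure ?_
      show cls D d _
      rw [(inv_cls D d).kernel D g y (y * a)]
      rwa [inv_mul_cancel_left]
    | one => intro y; simp
    | mul a b _ _ ha hb =>
      intro y
      have := mul_mem (ha y) (hb (y * a))
      rwa [mul_assoc, mul_inv_cancel_left, mul_assoc y a b] at this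
    | inv a _ ha =>
      intro y
      have := inv_mem (ha (y * a⁻¹))
      rwa [inv_mul_cancel_right, mul_inv_rev, inv_inv] at this
  have hU : Inv D (fun x => x ∈ U) := by
    intro g hg x
    apply propext
    constructor
    · intro h
      have := key g⁻¹ _ h 1
      rw [one_mul, pi_inv_pi, pi_one D (inv_smul_eq_iff.2 hg.symm)] at this
      simpa using this
    · intro h
      have := key g x h 1
      simpa [pi_one D hg] using this
  have hmem : d ∈ U := Subgroup.subset_closure (cls_self D d)
  have hall := const_of_period D hU hd (fun x => propext (U.mul_mem_cancel_left hmem))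
  have hsr : DihedralGroup.sr (0 : ZMod m) ∈ U := (iff_of_eq (hall _)).2 (one_mem U)
  set R : Subgroup (DihedralGroup m) :=
    { carrier := Set.range DihedralGroup.r
      one_mem' := ⟨0, rfl⟩
      mul_mem' := by rintro _ _ ⟨a, rfl⟩ ⟨b, rfl⟩; exact ⟨a + b, (DihedralGroup.r_mul_r a b).symm⟩
      inv_mem' := by rintro _ ⟨a, rfl⟩; exact ⟨-a, rfl⟩ }
  have hle : U ≤ R := (Subgroup.closure_le _).2 fun x hx => by
    rcases x with i | i
    · exact ⟨i, rfl⟩
    · exact absurd hx (hcon i)
  obtain ⟨i, hi⟩ := hle hsr
  cases hi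

/-- Invariant functions are inverse-symmetric. -/
theorem Inv.symm_apply {α : Type*} {f : DihedralGroup m → α} (hf : Inv D f)
    (d : DihedralGroup m) : f d⁻¹ = f d := by
  rcases eq_or_ne d 1 with rfl | hd
  · simp
  obtain ⟨k, hk⟩ := exists_sr_cls D hd
  have h1 := (hf.invFun D).eq_of_cls D hk
  have h2 := hf.eq_of_cls D hk
  simp only [DihedralGroup.inv_sr] at h1
  rw [← h1, h2]

variable [NeZero m]

/-- Every non-trivial suborbit contains a rotation. -/
theorem exists_r_cls (hm : 2 ≤ m) {d : DihedralGroup m} (hd : d ≠ 1) :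
    ∃ i, cls D d (DihedralGroup.r i) := by
  by_contra hcon
  push Not at hcon
  set T : DihedralGroup m → ℕ := fun x => if cls D d x then 1 else 0 with hT
  have hTi : Inv D T := (inv_cls D d).comp D (fun p => if p then 1 else 0)
  have hq := hTi.conv D hTi
  have hTsr : ∀ x, cls D d x → ∃ k, x = DihedralGroup.sr k := by
    intro x hx
    rcases x with i | i
    · exact absurd hx (hcon i)
    · exact ⟨i, rfl⟩
  have hz : ∀ x : DihedralGroup m, x ≠ 1 → ∑ e, T e * T (e⁻¹ * x) = 0 := by
    intro x hx
    obtain ⟨k, hk⟩ := exists_sr_cls D hx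
    rw [← hq.eq_of_cls D hk]
    refine Finset.sum_eq_zero fun e _ => ?_
    by_cases he : cls D d e
    · obtain ⟨i, rfl⟩ := hTsr e he
      have : ¬ cls D d ((DihedralGroup.sr i)⁻¹ * DihedralGroup.sr k) := by
        rw [DihedralGroup.inv_sr, DihedralGroup.sr_mul_sr]
        exact hcon _
      simp only [hT, if_neg this, mul_zero]
    · simp [hT, he]
  have huniq : ∀ x, cls D d x → x = d := by
    intro x hx
    by_contra hne
    obtain ⟨i, rfl⟩ := hTsr x hx
    obtain ⟨j, hj⟩ := hTsr d (cls_self D d)
    have hne1 : DihedralGroup.sr i * d ≠ 1 := fun h => hne (by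
      rw [mul_eq_one_iff_eq_inv] at h
      rw [h, hj, DihedralGroup.inv_sr])
    have := hz _ hne1
    rw [Finset.sum_eq_zero_iff] at this
    have := this (DihedralGroup.sr i) (Finset.mem_univ _)
    rw [inv_mul_cancel_left] at this
    simp [hT, hx, cls_self] at this
  have hd2 : d * d = 1 := by
    obtain ⟨j, hj⟩ := hTsr d (cls_self D d)
    rw [hj, DihedralGroup.sr_mul_self]
  have hU : Inv D (fun x => x = 1 ∨ x = d) := by
    have : (fun x => x = 1 ∨ x = d) = fun x => (if x = 1 then True else False) ∨ cls D d x := by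
      funext x
      apply propext
      constructor
      · rintro (rfl | rfl)
        · simp
        · exact Or.inr (cls_self D _)
      · rintro (h | h)
        · left; by_contra hx; simp [hx] at h
        · exact Or.inr (huniq x h)
    rw [this]
    exact (inv_ite D True False).comp₂ D (inv_cls D d) Or
  have hall := const_of_period D hU hd (fun x => propext (by
    constructor
    · rintro (h | h)
      · right; rw [← mul_one d, ← h, ← mul_assoc, hd2, one_mul]
      · left; exact mul_left_cancel (h.trans (mul_one d).symm)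
    · rintro (rfl | rfl)
      · right; rw [mul_one]
      · left; exact hd2))
  have hsub : (Finset.univ : Finset (DihedralGroup m)) ⊆ {1, d} := fun x _ => by
    simpa using (iff_of_eq (hall x)).2 (Or.inl rfl)
  have hc := (Finset.card_le_card hsub).trans Finset.card_le_two
  rw [Finset.card_univ, ← Nat.card_eq_fintype_card, DihedralGroup.nat_card] at hc
  omega

/-- An invariant function is determined off `1` by the rotations. -/
theorem Inv.ext_r (hm : 2 ≤ m) {α : Type*} {f h : DihedralGroup m → α} (hf : Inv D f)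
    (hh : Inv D h) (heq : ∀ i : ZMod m, i ≠ 0 → f (DihedralGroup.r i) = h (DihedralGroup.r i))
    {d : DihedralGroup m} (hd : d ≠ 1) : f d = h d := by
  obtain ⟨i, hi⟩ := exists_r_cls D hm hd
  rw [← hf.eq_of_cls D hi, ← hh.eq_of_cls D hi]
  exact heq i fun h0 => cls_ne_one D hd hi (by rw [h0]; rfl)

/-- An invariant function is determined off `1` by the reflections. -/
theorem Inv.ext_sr {α : Type*} {f h : DihedralGroup m → α} (hf : Inv D f) (hh : Inv D h)
    (heq : ∀ i : ZMod m, f (DihedralGroup.sr i) = h (DihedralGroup.sr i))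
    {d : DihedralGroup m} (hd : d ≠ 1) : f d = h d := by
  obtain ⟨i, hi⟩ := exists_sr_cls D hd
  rw [← hf.eq_of_cls D hi, ← hh.eq_of_cls D hi]
  exact heq i

end Prim

end Cfsg.Agent.DihedralB
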